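import Cfsg.Agent.Lib.TensorMax.Rigid

/-!
The tensor product stabiliser is maximal in the special linear group.
-/

set_option autoImplicit false

namespace Cfsg.Agent.Lib.TensorMax.Main

open Matrix Kronecker
open Cfsg.Agent.Lib.Subspaces.Transvection

theorem det_transport {F : Type*} [Field F] {ι κ : Type} [Fintype ι] [DecidableEq ι] [Fintype κ] [DecidableEq κ]
    (e : κ ≃ ι) (P : GL ι F) (x : GL κ F) :
    Matrix.GeneralLinearGroup.det ((Cfsg.Geo.glReindex (F := F) e).trans (MulAut.conj P) x) =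
      Matrix.GeneralLinearGroup.det x := by
  rw [MulEquiv.trans_apply, MulAut.conj_apply, map_mul, map_mul, map_inv, mul_comm, inv_mul_cancel_left]
  exact Units.ext (Matrix.det_reindexAlgEquiv F F e (x : Matrix κ κ F))

theorem maximal_of_three {F : Type*} [Field F] [Fintype F] (n : ℕ) (n₁ n₂ : ℕ) (hk : 3 ≤ n₂) (h1 : 2 ≤ n₁) (h12 : n₁ < n₂)
    (hex : ¬ (n₁ = 2 ∧ Fintype.card F = 2)) (e : Fin n ≃ Fin n₁ × Fin n₂) (P : GL (Fin n) F) :
    Cfsg.Geo.IsMaximalIn (Cfsg.Geo.specialLinear (Fin n) F)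
      (Cfsg.Geo.tensorProductSubgroup n₁ n₂ e P ⊓ Cfsg.Geo.specialLinear (Fin n) F) := by
  classical
  set φ : GL (Fin n₁ × Fin n₂) F ≃* GL (Fin n) F :=
    (Cfsg.Geo.glReindex (F := F) e.symm).trans (MulAut.conj P) with hφ
  have hdet : ∀ x, Matrix.GeneralLinearGroup.det (φ x) = Matrix.GeneralLinearGroup.det x := det_transport _ _
  have hmemT : ∀ x : GL (Fin n₁ × Fin n₂) F,
      φ x ∈ Cfsg.Geo.tensorProductSubgroup n₁ n₂ e P ↔ x ∈ Cfsg.Geo.kroneckerSubgroup n₁ n₂ F := by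
    intro x
    constructor
    · rintro ⟨y, ⟨z, hz, rfl⟩, hy⟩
      have : φ z = φ x := hy
      rwa [← φ.injective this]
    · exact fun hx => ⟨_, ⟨x, hx, rfl⟩, rfl⟩
  have hmemS : ∀ x : GL (Fin n₁ × Fin n₂) F,
      φ x ∈ Cfsg.Geo.specialLinear (Fin n) F ↔ x ∈ Cfsg.Geo.specialLinear (Fin n₁ × Fin n₂) F := by
    intro x
    simp only [Cfsg.Geo.specialLinear, MonoidHom.mem_ker, hdet]
  refine ⟨lt_of_le_of_ne inf_le_right fun heq => ?_, fun M hM hMle => ?_⟩
  · set T : GL (Fin n₁ × Fin n₂) F := tv (Pi.single (⟨0, by omega⟩, ⟨0, by omega⟩) 1)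
      (Pi.single (⟨1, by omega⟩, ⟨1, by omega⟩) 1) with hT
    have horth : (Pi.single (⟨1, by omega⟩, ⟨1, by omega⟩) 1 : Fin n₁ × Fin n₂ → F) ⬝ᵥ
        Pi.single (⟨0, by omega⟩, ⟨0, by omega⟩) 1 = 0 := by simp [Fin.ext_iff]
    have hTS : φ T ∈ Cfsg.Geo.specialLinear (Fin n) F := by
      rw [hmemS, Cfsg.Geo.specialLinear, MonoidHom.mem_ker]
      exact Units.ext (det_tv _ _)
    have hTH := hTS
    rw [← heq] at hTH
    obtain ⟨a, b, hab⟩ := (hmemT T).1 hTH.1
    rw [coe_tv horth] at hab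
    have e1 := congrFun (congrFun hab (⟨0, by omega⟩, ⟨0, by omega⟩)) (⟨1, by omega⟩, ⟨1, by omega⟩)
    have e2 := congrFun (congrFun hab (⟨1, by omega⟩, ⟨1, by omega⟩)) (⟨1, by omega⟩, ⟨1, by omega⟩)
    have e3 := congrFun (congrFun hab (⟨0, by omega⟩, ⟨1, by omega⟩)) (⟨1, by omega⟩, ⟨1, by omega⟩)
    simp [kroneckerMap_apply, vecMulVec_apply, Fin.ext_iff] at e1 e2 e3
    rcases e3 with e3 | e3
    · simp [e3] at e1
    · simp [e3] at e2
  · set M' := M.comap φ.toMonoidHom with hM'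
    have hmem' : ∀ x, x ∈ M' ↔ φ x ∈ M := fun x => Iff.rfl
    have S : Good.Setting M' :=
      { mem := fun g hg hd => hM ⟨(hmemT g).2 hg, (hmemS g).2 (Units.ext hd)⟩
        hm := h1
        hk := hk
        hex := by
          rcases eq_or_lt_of_le h1 with h | h
          · have h2 : 2 < Fintype.card F := lt_of_le_of_ne Fintype.one_lt_card fun h' => hex ⟨h.symm, h'.symm⟩
            obtain ⟨a, b, c, hab, hac, hbc⟩ := Fintype.two_lt_card_iff.1 h2
            refine Or.inr ?_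
            by_contra hc
            push Not at hc
            by_cases ha : a = 0
            · exact hbc ((hc b (fun e => hab (ha.trans e.symm))).trans (hc c (fun e => hac (ha.trans e.symm))).symm)
            · by_cases hb : b = 0
              · exact hac ((hc a ha).trans (hc c (fun e => hbc (hb.trans e.symm))).symm)
              · exact hab ((hc a ha).trans (hc b hb).symm)
          · exact Or.inl h }
    by_cases hG : Good.Good M'
    · refine Or.inr (le_antisymm hMle fun x hx => ?_)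
      have := S.specialLinear_le hG (show φ.symm x ∈ _ from (hmemS _).1 (by rwa [φ.apply_symm_apply]))
      rwa [hmem', φ.apply_symm_apply] at this
    · refine Or.inl (le_antisymm (fun x hx => ⟨?_, hMle hx⟩) hM)
      have := Rigid.rigid S h12 hG (show φ.symm x ∈ M' by rwa [hmem', φ.apply_symm_apply])
      have := (hmemT _).2 this
      rwa [φ.apply_symm_apply] at this

theorem maximal {F : Type*} [Field F] [Fintype F] (n : ℕ) (hn : 13 ≤ n) (n₁ n₂ : ℕ) (h1 : 2 ≤ n₁) (h12 : n₁ < n₂)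
    (hex : ¬ (n₁ = 2 ∧ Fintype.card F = 2)) (e : Fin n ≃ Fin n₁ × Fin n₂) (P : GL (Fin n) F) :
    Cfsg.Geo.IsMaximalIn (Cfsg.Geo.specialLinear (Fin n) F)
      (Cfsg.Geo.tensorProductSubgroup n₁ n₂ e P ⊓ Cfsg.Geo.specialLinear (Fin n) F) :=
  maximal_of_three n n₁ n₂ (by
    have hcard : n = n₁ * n₂ := by simpa using Fintype.card_congr e
    nlinarith) h1 h12 hex e P

end Cfsg.Agent.Lib.TensorMax.Main
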