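import Cfsg.Agent.Lib.TensorMax.Good

/-!
Elements sending a block into few blocks, or into one row of the first factor, when the coefficient
algebra is scalar.
-/

set_option autoImplicit false

namespace Cfsg.Agent.Lib.TensorMax.Lemmas

open Matrix Kronecker
open Cfsg.Agent.Lib.Subspaces.Transvection Cfsg.Agent.Lib.Subspaces.FormVec
  Cfsg.Agent.Lib.TensorMax.Block Cfsg.Agent.Lib.TensorMax.Good

variable {m k : ℕ} {F : Type*} [Field F] {M : Subgroup (GL (Fin m × Fin k) F)}

local notation "V1" => Fin m → F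
local notation "V2" => Fin k → F
local notation "A1" => Matrix (Fin m) (Fin m) F
local notation "Big" => Matrix (Fin m × Fin k) (Fin m × Fin k) F
local notation "G" => GL (Fin m × Fin k) F

/-- A pure tensor. -/
def tens (u : Fin m → F) (w : Fin k → F) : Fin m × Fin k → F := fun p => u p.1 * w p.2

/-- Contraction of the second factor by a functional. -/
def ctr (φ : Fin k → F) (z : Fin m × Fin k → F) : Fin m → F := fun i => ∑ a : Fin k, φ a * z (i, a)

theorem kron_mulVec_tens (A : A1) (N : Matrix (Fin k) (Fin k) F) (u : V1) (w : V2) :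
    (A ⊗ₖ N) *ᵥ tens u w = tens (A *ᵥ u) (N *ᵥ w) := by
  ext ⟨i, a⟩
  simp only [mulVec, dotProduct, tens, kroneckerMap_apply, Fintype.sum_prod_type, Finset.sum_mul_sum]
  exact Finset.sum_congr rfl fun j _ => Finset.sum_congr rfl fun b _ => by ring

theorem el_mulVec (A : A1) (v φ : V2) (z : Fin m × Fin k → F) :
    el A v φ *ᵥ z = tens (A *ᵥ ctr φ z) v := by
  ext ⟨i, a⟩
  simp only [mulVec, dotProduct, tens, ctr, el_apply, Fintype.sum_prod_type, Finset.sum_mul, Finset.mul_sum]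
  exact Finset.sum_congr rfl fun j _ => Finset.sum_congr rfl fun b _ => by ring

theorem ctr_tens (φ : V2) (u : V1) (w : V2) : ctr φ (tens u w) = (φ ⬝ᵥ w) • u := by
  ext i
  simp only [ctr, tens, dotProduct, Pi.smul_apply, smul_eq_mul, Finset.sum_mul]
  exact Finset.sum_congr rfl fun a _ => by ring

theorem ctr_mulVec_tens (Gm : Big) (φ v : V2) (u : V1) :
    ctr φ (Gm *ᵥ tens u v) = blk Gm φ v *ᵥ u := by
  ext i
  simp only [ctr, mulVec, dotProduct, tens, blk, Fintype.sum_prod_type, Finset.mul_sum, Finset.sum_mul]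
  rw [Finset.sum_comm]
  exact Finset.sum_congr rfl fun j _ => Finset.sum_congr rfl fun a _ =>
    Finset.sum_congr rfl fun b _ => by ring

theorem el_sandwich' (A : A1) (Gm : Big) {v ψ w φ : V2} :
    el A v ψ * Gm * el (1 : A1) w φ = el (A * blk Gm ψ w) v φ := by
  rcases eq_or_ne ψ 0 with rfl | hψ
  · have : blk Gm 0 w = 0 := by ext i j; simp [blk]
    rw [this, mul_zero, el_zero_left, el, vecMulVec_zero, kronecker_zero, Matrix.zero_mul, Matrix.zero_mul]
  obtain ⟨z, hz⟩ := exists_dot_eq_one hψ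
  have e : el A v ψ = el A v ψ * el (1 : A1) z ψ := by
    rw [el_mul, dotProduct_comm, hz, one_smul, mul_one]
  rw [e, Matrix.mul_assoc (el A v ψ), Matrix.mul_assoc (el A v ψ), el_sandwich, el_mul, dotProduct_comm, hz,
    one_smul]

theorem blk_add (Gm : Big) (ψ ψ' w : V2) : blk Gm (ψ + ψ') w = blk Gm ψ w + blk Gm ψ' w := by
  ext i j
  simp [blk, add_mul, Finset.sum_add_distrib]

theorem blk_smul (Gm : Big) (c : F) (ψ w : V2) : blk Gm (c • ψ) w = c • blk Gm ψ w := by
  ext i j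
  simp only [blk, Pi.smul_apply, Matrix.smul_apply, smul_eq_mul, Finset.mul_sum]
  exact Finset.sum_congr rfl fun a _ => Finset.sum_congr rfl fun b _ => by ring

/-- `g` carries the block of `v` to the block of `v'` by `C`. -/
def BlockTo (g : GL (Fin m × Fin k) F) (v v' : Fin k → F) (C : Matrix (Fin m) (Fin m) F) : Prop :=
  ∀ ψ : Fin k → F, (g : Matrix (Fin m × Fin k) (Fin m × Fin k) F) * el 1 v ψ = el C v' ψ

theorem isUnit_of_inj {C : A1} (h : ∀ A : A1, C * A = 0 → A = 0) : IsUnit C := by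
  rw [← Matrix.mulVec_injective_iff_isUnit]
  intro x y hxy
  by_contra hne
  have hz : C *ᵥ (x - y) = 0 := by rw [mulVec_sub, hxy, sub_self]
  have h1 := h (vecMulVec (x - y) (fun _ => 1)) (by rw [mul_vecMulVec, hz, zero_vecMulVec])
  obtain ⟨i, hi⟩ := Function.ne_iff.1 (sub_ne_zero.2 hne)
  have := congrFun (congrFun h1 i) i
  simp [vecMulVec_apply] at this
  exact hi (by simpa using this)

theorem gl_cancel (g : G) {X Y : Big} (h : (g : Big) * X = Y) : X = ((g⁻¹ : G) : Big) * Y := by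
  rw [← h, ← Matrix.mul_assoc, ← Units.val_mul, inv_mul_cancel, Units.val_one, Matrix.one_mul]

theorem InM_conj_root (S : Setting M) {g : G} (hg : g ∈ M) {v φ : V2} (h : φ ⬝ᵥ v = 0) :
    InM M ((g : Big) * el (1 : A1) v φ * ((g⁻¹ : G) : Big)) := (S.hT1 h).conj hg

theorem el_ne_zero (hm : 0 < m) {A : A1} {v φ : V2} (hv : v ≠ 0) (hφ : φ ≠ 0) (hA : A ≠ 0) : el A v φ ≠ 0 :=
  fun e => hA (el_inj hv hφ (e.trans (el_zero_left v φ).symm))

section

variable (S : Setting M) (hG : ¬ Good.Good M)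
include S hG

theorem mem_of_blockTo {g : G} (hg : g ∈ M) {v v' : V2} (hv : v ≠ 0) (hv' : v' ≠ 0) {C : A1}
    (hB : BlockTo g v v' C) : g ∈ Cfsg.Geo.kroneckerSubgroup m k F := by
  have hk := S.hk
  have hone : (1 : A1) ≠ 0 := fun e => by
    have := congrFun (congrFun e ⟨0, by have := S.hm; omega⟩) ⟨0, by have := S.hm; omega⟩
    simp at this
  obtain ⟨ψ0, hψ0⟩ := exists_dot_eq_one hv
  obtain ⟨ψ', hψ'⟩ := exists_dot_eq_one hv'
  have hgA : ∀ (A : A1) (ψ : V2), (g : Big) * el A v ψ = el (C * A) v' ψ := fun A ψ => by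
    have e : el A v ψ = el (1 : A1) v ψ0 * el A v ψ := by rw [el_mul, hψ0, one_smul, one_mul]
    rw [e, ← Matrix.mul_assoc, hB, el_mul, hψ0, one_smul]
  have hC : IsUnit C := isUnit_of_inj fun A hA => by
    have h1 := hgA A ψ0
    rw [hA, el_zero_left] at h1
    have h2 := gl_cancel g h1
    rw [Matrix.mul_zero] at h2
    exact el_inj hv (fun e => by rw [e, zero_dotProduct] at hψ0; exact zero_ne_one hψ0)
      (h2.trans (el_zero_left _ _).symm)
  obtain ⟨Cu, rfl⟩ := hC
  set C' : A1 := ((Cu⁻¹ : GL (Fin m) F) : A1)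
  have hCC : (Cu : A1) * C' = 1 := by rw [← Units.val_mul, mul_inv_cancel, Units.val_one]
  have hC'C : C' * (Cu : A1) = 1 := by rw [← Units.val_mul, inv_mul_cancel, Units.val_one]
  have hginv : ∀ ψ, ((g⁻¹ : G) : Big) * el (1 : A1) v' ψ = el C' v ψ := fun ψ => by
    rw [gl_cancel g (hgA C' ψ), hCC]
  have hcol : ∀ w : V2, ∃ c : V2, ∀ ψ : V2, (g : Big) * el (1 : A1) w ψ = el (Cu : A1) c ψ := by
    intro w
    obtain ⟨φ, hφ0, hφ⟩ := Setting.exists_ne_orth ![v, w] (by omega)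
    have hφv : φ ⬝ᵥ v = 0 := hφ 0
    have hφw : φ ⬝ᵥ w = 0 := hφ 1
    obtain ⟨φ', hX⟩ := S.image_block hG (InM_conj_root S hg hφv) hψ'
      (by rw [hB, ← Matrix.mul_assoc, el_mul, hψ', one_smul, one_mul])
      (by rw [Matrix.mul_assoc, hginv, Matrix.mul_assoc, el_mul, hφv, zero_smul, Matrix.mul_zero])
    have hX' : el (Cu : A1) v' φ * ((g⁻¹ : G) : Big) = el 1 v' φ' := by rw [← hB, hX]
    have hφ'0 : φ' ≠ 0 := fun e => by
      rw [e, show el (1 : A1) v' 0 = 0 by rw [el, vecMulVec_zero, kronecker_zero]] at hX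
      have h1 := congrArg (fun Z => ((g⁻¹ : G) : Big) * Z * (g : Big)) hX
      simp only [← Matrix.mul_assoc, ← Units.val_mul, inv_mul_cancel, Units.val_one, Matrix.one_mul,
        Matrix.mul_zero, Matrix.zero_mul] at h1
      rw [Matrix.mul_assoc, ← Units.val_mul, inv_mul_cancel, Units.val_one, Matrix.mul_one] at h1
      exact el_ne_zero (by have := S.hm; omega) hv hφ0 hone h1
    obtain ⟨z, hz⟩ := exists_dot_eq_one hφ'0
    rw [dotProduct_comm] at hz
    have key1 : el (1 : A1) w φ * ((g⁻¹ : G) : Big) = el C' w φ' := by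
      have h1 := congrArg (fun Z => el C' w ψ' * Z) hX'
      simp only [← Matrix.mul_assoc, el_mul, hψ', one_smul, hC'C, mul_one] at h1
      exact h1
    have key2 : el (1 : A1) z φ' * (g : Big) = el (Cu : A1) z φ := by
      have h0 : el (1 : A1) v' φ' * (g : Big) = el (Cu : A1) v' φ := by
        rw [← hX', Matrix.mul_assoc, ← Units.val_mul, inv_mul_cancel, Units.val_one, Matrix.mul_one]
      have h1 := congrArg (fun Z => el (1 : A1) z ψ' * Z) h0
      simp only [← Matrix.mul_assoc, el_mul, hψ', one_smul, one_mul] at h1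
      exact h1
    have hY := InM_conj_root S hg hφw
    rw [Matrix.mul_assoc, key1] at hY
    obtain ⟨c, hc⟩ := S.kernel_block hG hY hz
      (by rw [Matrix.mul_assoc, el_mul, hz, one_smul, mul_one])
      (by rw [← Matrix.mul_assoc, key2, el_mul, hφw, zero_smul])
    refine ⟨c, fun ψ => ?_⟩
    have h1 := congrArg (fun Z => Z * el (Cu : A1) z ψ) hc
    simp only [Matrix.mul_assoc, el_mul, hz, one_smul, hC'C, one_mul] at h1
    exact h1
  choose c hc using hcol
  set N : Matrix (Fin k) (Fin k) F := ∑ a : Fin k, vecMulVec (c (Pi.single a 1)) (Pi.single a 1)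
  have hgN : (g : Big) = (Cu : A1) ⊗ₖ N := by
    calc (g : Big) = (g : Big) * ∑ a : Fin k, el (1 : A1) (Pi.single a 1) (Pi.single a 1) := by
          rw [sum_el_one, Matrix.mul_one]
      _ = ∑ a : Fin k, el (Cu : A1) (c (Pi.single a 1)) (Pi.single a 1) := by
          rw [Matrix.mul_sum]; exact Finset.sum_congr rfl fun a _ => hc _ _
      _ = _ := (sum_kronecker_right _ _ _).symm
  have hN : N.det ≠ 0 := fun h0 => by
    refine GeneralLinearGroup.det_ne_zero g ?_
    rw [hgN, det_kronecker, h0, zero_pow, mul_zero]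
    rw [Fintype.card_fin]
    have := S.hm
    omega
  exact ⟨Cu, GeneralLinearGroup.mkOfDetNeZero N hN, hgN⟩

theorem mem_of_few {g : G} (hg : g ∈ M) {v : V2} (hv : v ≠ 0) {l : ℕ} (hl : l < k) (s : Fin l → V2)
    (h : ∀ φ : V2, (∀ i, φ ⬝ᵥ s i = 0) → blk (g : Big) φ v = 0) : g ∈ Cfsg.Geo.kroneckerSubgroup m k F := by
  have hk := S.hk
  have hone : (1 : A1) ≠ 0 := fun e => by
    have := congrFun (congrFun e ⟨0, by have := S.hm; omega⟩) ⟨0, by have := S.hm; omega⟩
    simp at this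
  by_cases hall : ∀ ψ : V2, ψ ⬝ᵥ v = 0 → ∀ w φ : V2, φ ≠ 0 → φ ⬝ᵥ w = 0 → (∀ i, φ ⬝ᵥ s i = 0) →
      (g : Big) * el (1 : A1) v ψ * ((g⁻¹ : G) : Big) * el (1 : A1) w φ = 0
  · exfalso
    obtain ⟨φ0, hφ00, hφ0s⟩ := Setting.exists_ne_orth s hl
    obtain ⟨z, hz⟩ := exists_dot_eq_one hφ00
    rw [dotProduct_comm] at hz
    obtain ⟨ψ0, hψ0⟩ := exists_dot_eq_one hv
    have hkill : ∀ ψ : V2, ψ ⬝ᵥ v = 0 → ∀ w : V2, φ0 ⬝ᵥ w = 0 → ∀ y χ : V2,
        el (1 : A1) y ψ * (((g⁻¹ : G) : Big) * el (1 : A1) w χ) = 0 := by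
      intro ψ hψ w hw y χ
      have h1 := congrArg (fun Z => el (1 : A1) y ψ0 * (((g⁻¹ : G) : Big) * (Z * el (1 : A1) z χ)))
        (hall ψ hψ w φ0 hφ00 hw hφ0s)
      simp only [← Matrix.mul_assoc, ← Units.val_mul, inv_mul_cancel, Units.val_one, Matrix.one_mul,
        Matrix.mul_zero, Matrix.zero_mul, el_mul, hψ0, one_smul, one_mul] at h1
      simpa only [Matrix.mul_assoc, el_mul, hz, one_smul, one_mul, Units.val_one, mul_one,
        inv_mul_cancel] using h1
    have e : (1 : Big) - el (1 : A1) v ψ0 =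
        ∑ c : Fin k, el (1 : A1) (Pi.single c 1) (Pi.single c 1 - v c • ψ0) := by
      rw [← sum_el_one]
      simp only [el, vecMulVec_sub, kronecker_sub'', Finset.sum_sub_distrib]
      congr 1
      rw [← sum_kronecker_right]
      congr 1
      ext i j
      simp [Matrix.sum_apply, vecMulVec_apply, Pi.single_apply]
    have hfac : ∀ w : V2, φ0 ⬝ᵥ w = 0 → ∀ χ : V2, ((g⁻¹ : G) : Big) * el (1 : A1) w χ =
        el (1 : A1) v ψ0 * (((g⁻¹ : G) : Big) * el (1 : A1) w χ) := by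
      intro w hw χ
      rw [← sub_eq_zero]
      conv_lhs => arg 1; rw [← Matrix.one_mul (((g⁻¹ : G) : Big) * el (1 : A1) w χ)]
      rw [← sub_mul, e, Matrix.sum_mul]
      refine Finset.sum_eq_zero fun c _ => hkill _ ?_ w hw _ _
      rw [sub_dotProduct, smul_dotProduct, hψ0, smul_eq_mul, mul_one]
      simp
    obtain ⟨w1, hw1, hw1φ⟩ := exists_common_zero_not_mem (⊥ : Submodule F V2) ![φ0]
      (by rw [finrank_bot, Fintype.card_fin]; omega)
    replace hw1 : w1 ≠ 0 := by simpa using hw1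
    obtain ⟨w2, hw2, hw2φ⟩ := exists_common_zero_not_mem (Submodule.span F {w1}) ![φ0]
      (by rw [finrank_span_singleton hw1, Fintype.card_fin]; omega)
    have hAC : ∀ w : V2, φ0 ⬝ᵥ w = 0 → ∀ A : A1, ((g⁻¹ : G) : Big) * el A w φ0 =
        el (blk ((g⁻¹ : G) : Big) ψ0 w * A) v φ0 := by
      intro w hw A
      have h1 : el A w φ0 = el (1 : A1) w φ0 * el A z φ0 := by rw [el_mul, hz, one_smul, one_mul]
      rw [h1, ← Matrix.mul_assoc, hfac w hw φ0, ← Matrix.mul_assoc (el (1 : A1) v ψ0), el_sandwich, el_mul,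
        hz, one_smul]
    set C1 : A1 := blk ((g⁻¹ : G) : Big) ψ0 w1
    obtain ⟨Cu, hCu⟩ : IsUnit C1 := isUnit_of_inj fun A hA => by
      have h1 := hAC w1 (hw1φ 0) A
      rw [hA, el_zero_left] at h1
      have h2 := gl_cancel (g⁻¹ : G) h1
      rw [Matrix.mul_zero] at h2
      exact el_inj hw1 hφ00 (h2.trans (el_zero_left _ _).symm)
    have h1 := hAC w1 (hw1φ 0) (((Cu⁻¹ : GL (Fin m) F) : A1) * blk ((g⁻¹ : G) : Big) ψ0 w2)
    rw [← Matrix.mul_assoc, show blk ((g⁻¹ : G) : Big) ψ0 w1 = (Cu : A1) from hCu.symm, ← Units.val_mul,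
      mul_inv_cancel, Units.val_one, one_mul] at h1
    have h2 := hAC w2 (hw2φ 0) 1
    rw [mul_one, ← h1] at h2
    obtain ⟨η, hη, hηw⟩ := exists_functional hw2
    have h3 := congrArg (fun Z => el (1 : A1) z η * ((g : Big) * Z)) h2
    simp only [← Matrix.mul_assoc, ← Units.val_mul, mul_inv_cancel, Units.val_one, Matrix.one_mul] at h3
    rw [el_mul, el_mul,
      hηw, hη w1 (Submodule.mem_span_singleton_self w1), one_smul, zero_smul, one_mul] at h3
    exact el_ne_zero (by have := S.hm; omega) (fun e0 => by rw [e0, dotProduct_zero] at hz; exact zero_ne_one hz)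
      hφ00 hone h3
  push Not at hall
  obtain ⟨ψ, hψv, hall⟩ := hall
  set X : Big := (g : Big) * el (1 : A1) v ψ * ((g⁻¹ : G) : Big) with hXdef
  have hXM : InM M X := InM_conj_root S hg hψv
  have hXX : X * X = 0 := by
    calc X * X = (g : Big) * el (1 : A1) v ψ * (((g⁻¹ : G) : Big) * (g : Big)) * el (1 : A1) v ψ *
        ((g⁻¹ : G) : Big) := by simp only [X, Matrix.mul_assoc]
      _ = 0 := by
        rw [← Units.val_mul, inv_mul_cancel, Units.val_one, Matrix.mul_one, Matrix.mul_assoc (g : Big), el_mul,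
          hψv, zero_smul, Matrix.mul_zero, Matrix.zero_mul]
  obtain ⟨w, φ, hφ0, hφw, hφs, hne⟩ := hall
  obtain ⟨z, hz⟩ := exists_dot_eq_one hφ0
  rw [dotProduct_comm] at hz
  have hkill : ∀ y : V2, el (1 : A1) y φ * X = 0 := fun y => by
    rw [hXdef, ← Matrix.mul_assoc, ← Matrix.mul_assoc, el_sandwich, h φ hφs, el_zero_left, Matrix.zero_mul]
  have hc := hXM.comm (S.hT1 hφw) hXX (Setting.el_sq _ _ _ _ hφw) (hkill w)
  obtain ⟨c, hc'⟩ := S.kernel_block hG hc hz
    (by rw [Matrix.mul_assoc, el_mul, hz, one_smul, mul_one])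
    (by rw [← Matrix.mul_assoc, hkill, Matrix.zero_mul])
  have hc0 : c ≠ 0 := fun e => hne (by rw [hc', e, el, zero_vecMulVec, kronecker_zero])
  set C0 : A1 := blk ((g⁻¹ : G) : Big) ψ w
  have hgC : (g : Big) * el C0 v φ = el 1 c φ := by
    rw [← hc', hXdef, ← el_sandwich]
    simp only [Matrix.mul_assoc]
  have hgA : ∀ (A : A1) (χ : V2), (g : Big) * el (C0 * A) v χ = el A c χ := fun A χ => by
    have h1 := congrArg (fun Z => Z * el A z χ) hgC
    simp only [Matrix.mul_assoc, el_mul, hz, one_smul, one_mul] at h1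
    exact h1
  have hC : IsUnit C0 := isUnit_of_inj fun A hA => by
    have h1 := hgA A φ
    rw [hA, el_zero_left, Matrix.mul_zero] at h1
    exact el_inj hc0 hφ0 (h1.symm.trans (el_zero_left _ _).symm)
  obtain ⟨Cu, hCu⟩ := hC
  refine mem_of_blockTo S hG hg hv hc0 (C := ((Cu⁻¹ : GL (Fin m) F) : A1)) fun χ => ?_
  rw [← hgA, ← hCu, ← Units.val_mul, mul_inv_cancel, Units.val_one]
where
  kronecker_sub'' {A : A1} {B C : Matrix (Fin k) (Fin k) F} : A ⊗ₖ (B - C) = A ⊗ₖ B - A ⊗ₖ C := by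
    ext ⟨i, c⟩ ⟨j, d⟩
    simp [kroneckerMap_apply, mul_sub]

theorem not_row {g : G} (hg : g ∈ M) {v : V2} (hv : v ≠ 0) (hmk : m < k) {a : V1} (ha : a ≠ 0)
    (h : ∀ χ : V1, χ ⬝ᵥ a = 0 → ∀ φ : V2, χ ᵥ* blk (g : Big) φ v = 0) : False := by
  have hk := S.hk
  have hm := S.hm
  obtain ⟨χ1, hχ1⟩ := exists_dot_eq_one ha
  obtain ⟨b, hb0, hb⟩ := exists_common_zero_not_mem (⊥ : Submodule F V1) ![a]
    (by rw [finrank_bot, Fintype.card_fin]; omega)
  replace hb0 : b ≠ 0 := by simpa using hb0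
  have hba : b ⬝ᵥ a = 0 := by rw [dotProduct_comm]; exact hb 0
  set P : A1 := vecMulVec a χ1
  have hP : ∀ φ : V2, P * blk (g : Big) φ v = blk (g : Big) φ v := fun φ => by
    ext i j
    have h1 := congrFun (h (Pi.single i 1 - a i • χ1)
      (by rw [sub_dotProduct, smul_dotProduct, hχ1, smul_eq_mul, mul_one]; simp) φ) j
    rw [sub_vecMul, smul_vecMul, single_one_vecMul, Pi.zero_apply, Pi.sub_apply, sub_eq_zero] at h1
    rw [vecMulVec_mul, vecMulVec_apply]
    simpa using h1.symm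
  have hleft : ∀ (A : A1) (ψ : V2), A ⊗ₖ (1 : Matrix (Fin k) (Fin k) F) * ((g : Big) * el (1 : A1) v ψ) =
      ∑ c : Fin k, el (A * blk (g : Big) (Pi.single c 1) v) (Pi.single c 1) ψ := by
    intro A ψ
    rw [show A ⊗ₖ (1 : Matrix (Fin k) (Fin k) F) = ∑ c : Fin k, el A (Pi.single c 1) (Pi.single c 1) by
      rw [← Matrix.mul_one (A ⊗ₖ (1 : Matrix (Fin k) (Fin k) F)), ← sum_el_one, Matrix.mul_sum]
      exact Finset.sum_congr rfl fun c _ => by
        rw [el, el, ← Matrix.mul_kronecker_mul, mul_one, Matrix.one_mul], Matrix.sum_mul]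
    exact Finset.sum_congr rfl fun c _ => by rw [← Matrix.mul_assoc, el_sandwich']
  have hPX : ∀ ψ, P ⊗ₖ (1 : Matrix (Fin k) (Fin k) F) * ((g : Big) * el (1 : A1) v ψ) =
      (g : Big) * el (1 : A1) v ψ := fun ψ => by
    rw [hleft]
    conv_rhs => rw [← Matrix.one_mul ((g : Big) * el (1 : A1) v ψ), ← one_kronecker_one, hleft]
    exact Finset.sum_congr rfl fun c _ => by rw [hP, one_mul]
  set Y : Big := vecMulVec a b ⊗ₖ (1 : Matrix (Fin k) (Fin k) F)
  have hY : InM M Y := by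
    refine ⟨kronGL (tv a b) 1, S.mem _ (kronGL_mem _ _) ?_, ?_⟩
    · show Matrix.det ((tv a b : A1) ⊗ₖ (1 : Matrix (Fin k) (Fin k) F)) = 1
      rw [det_kronecker, det_tv, det_one, one_pow, one_pow, mul_one]
    · show (tv a b : A1) ⊗ₖ (1 : Matrix (Fin k) (Fin k) F) = _
      rw [coe_tv hba, add_kronecker, one_kronecker_one]
  have hYP : Y * P ⊗ₖ (1 : Matrix (Fin k) (Fin k) F) = 0 := by
    rw [← Matrix.mul_kronecker_mul, vecMulVec_mul_vecMulVec, hba, zero_smul, vecMulVec_zero, zero_kronecker]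
  have hab0 : vecMulVec a b ≠ 0 := fun e => by
    obtain ⟨i, hi⟩ := Function.ne_iff.1 ha
    obtain ⟨j, hj⟩ := Function.ne_iff.1 hb0
    have := congrFun (congrFun e i) j
    simp [vecMulVec_apply] at this
    tauto
  have hP0 : P ≠ 0 := fun e => by
    have h1 : P *ᵥ a = 0 := by rw [e, zero_mulVec]
    rw [vecMulVec_mulVec, op_smul_eq_smul, hχ1, one_smul] at h1
    exact ha h1
  -- every root element `g (1 ⊗ vψ) g⁻¹` kills the row
  have hzero : ∀ ψ : V2, ψ ⬝ᵥ v = 0 → (g : Big) * el (1 : A1) v ψ * ((g⁻¹ : G) : Big) *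
      P ⊗ₖ (1 : Matrix (Fin k) (Fin k) F) = 0 := by
    intro ψ hψv
    set X : Big := (g : Big) * el (1 : A1) v ψ * ((g⁻¹ : G) : Big) with hXdef
    have hXM : InM M X := InM_conj_root S hg hψv
    have hPX' : P ⊗ₖ (1 : Matrix (Fin k) (Fin k) F) * X = X := by
      rw [hXdef, ← Matrix.mul_assoc, hPX]
    have hXX : X * X = 0 := by
      calc X * X = (g : Big) * el (1 : A1) v ψ * (((g⁻¹ : G) : Big) * (g : Big)) * el (1 : A1) v ψ *
          ((g⁻¹ : G) : Big) := by simp only [X, Matrix.mul_assoc]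
        _ = 0 := by
          rw [← Units.val_mul, inv_mul_cancel, Units.val_one, Matrix.mul_one, Matrix.mul_assoc (g : Big), el_mul,
            hψv, zero_smul, Matrix.mul_zero, Matrix.zero_mul]
    set D : Matrix (Fin k) (Fin k) F := fun c d => ∑ i : Fin m, ∑ j : Fin m, χ1 i * X (i, c) (j, d) * a j
    have hD : ∀ (u x : V1), (vecMulVec u χ1 ⊗ₖ (1 : Matrix (Fin k) (Fin k) F)) * X *
        (vecMulVec a x ⊗ₖ (1 : Matrix (Fin k) (Fin k) F)) = vecMulVec u x ⊗ₖ D := by
      intro u x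
      ext ⟨i, c⟩ ⟨j, d⟩
      rw [kroneckerMap_apply, vecMulVec_apply]
      show _ = u i * x j * ∑ s : Fin m, ∑ t : Fin m, χ1 s * X (s, c) (t, d) * a t
      simp only [Matrix.mul_apply, kroneckerMap_apply, vecMulVec_apply, Matrix.one_apply, Fintype.sum_prod_type,
        mul_ite, mul_one, mul_zero, ite_mul, zero_mul, Finset.sum_ite_eq, Finset.sum_ite_eq', Finset.mem_univ,
        if_true, Finset.mul_sum, Finset.sum_mul]
      rw [Finset.sum_comm]
      exact Finset.sum_congr rfl fun s _ => Finset.sum_congr rfl fun t _ => by ring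
    have hXY : X * Y = vecMulVec a b ⊗ₖ D := by rw [← hD a b, hPX']
    have hXP : X * P ⊗ₖ (1 : Matrix (Fin k) (Fin k) F) = P ⊗ₖ D := by rw [← hD a χ1, hPX']
    by_contra hne
    have hD0 : D ≠ 0 := fun e => hne (by rw [hXP, e, kronecker_zero])
    have hDD : D * D = 0 := by
      have h1 : P ⊗ₖ (D * D) = 0 := by
        have hPP : P * P = P := by rw [vecMulVec_mul_vecMulVec, hχ1, one_smul]
        rw [← hPP, Matrix.mul_kronecker_mul, ← hXP, Matrix.mul_assoc, ← Matrix.mul_assoc _ X, hPX',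
          ← Matrix.mul_assoc, hXX, Matrix.zero_mul]
      by_contra hne'
      obtain ⟨i, hi⟩ : ∃ i, P i ≠ 0 := Function.ne_iff.1 hP0
      obtain ⟨j, hj⟩ := Function.ne_iff.1 hi
      obtain ⟨c, hc⟩ : ∃ c, (D * D) c ≠ 0 := Function.ne_iff.1 hne'
      obtain ⟨d, hd⟩ := Function.ne_iff.1 hc
      have := congrFun (congrFun h1 (i, c)) (j, d)
      simp [kroneckerMap_apply] at this
      exact this.elim hj hd
    obtain ⟨w, hw⟩ : ∃ w : V2, D *ᵥ w ≠ 0 := by
      by_contra hc
      push Not at hc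
      exact hD0 (Matrix.mulVec_injective (funext fun w => by rw [hc w, zero_mulVec]))
    set R := LinearMap.range (Matrix.mulVecLin D)
    have hR : R ≤ LinearMap.ker (Matrix.mulVecLin D) := by
      rintro _ ⟨y, rfl⟩
      rw [LinearMap.mem_ker, Matrix.mulVecLin_apply, Matrix.mulVecLin_apply, Matrix.mulVec_mulVec, hDD,
        zero_mulVec]
    have hdim := LinearMap.finrank_range_add_finrank_ker (Matrix.mulVecLin D)
    rw [Module.finrank_fintype_fun_eq_card, Fintype.card_fin] at hdim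
    have hRk := Submodule.finrank_mono hR
    have hsum := Submodule.finrank_add_le_finrank_add_finrank R (Submodule.span F {w})
    have h1w : Module.finrank F (Submodule.span F {w}) ≤ 1 := (finrank_span_le_card _).trans (by simp)
    obtain ⟨z, hz⟩ : ∃ z, z ∉ R ⊔ Submodule.span F {w} := by
      by_contra hc
      push Not at hc
      have htop : R ⊔ Submodule.span F {w} = ⊤ := eq_top_iff.2 fun z _ => hc z
      rw [htop, finrank_top, Module.finrank_fintype_fun_eq_card, Fintype.card_fin] at hsum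
      have : Module.finrank F R = Module.finrank F (LinearMap.range (Matrix.mulVecLin D)) := rfl
      omega
    obtain ⟨φ, hφ, hφz⟩ := exists_functional hz
    have hφ0 : φ ≠ 0 := fun e => by rw [e, zero_dotProduct] at hφz; exact zero_ne_one hφz
    have hφw : φ ⬝ᵥ w = 0 := hφ w (Submodule.mem_sup_right (Submodule.mem_span_singleton_self w))
    have hφD : ∀ y, φ ⬝ᵥ (D *ᵥ y) = 0 := fun y =>
      hφ _ (Submodule.mem_sup_left (show D *ᵥ y ∈ R from ⟨y, rfl⟩))
    have hZ : InM M (vecMulVec a b ⊗ₖ D) := by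
      rw [← hXY]
      refine hXM.comm hY hXX ?_ ?_
      · rw [← Matrix.mul_kronecker_mul, vecMulVec_mul_vecMulVec, hba, zero_smul, vecMulVec_zero, zero_kronecker]
      · rw [← hPX', ← Matrix.mul_assoc, hYP, Matrix.zero_mul]
    have hφDv : φ ᵥ* D = 0 := funext fun d => by
      have := hφD (Pi.single d 1)
      rwa [dotProduct_mulVec, dotProduct_single, mul_one] at this
    have hW := hZ.comm (S.hT1 hφw)
      (by rw [← Matrix.mul_kronecker_mul, vecMulVec_mul_vecMulVec, hba, zero_smul, vecMulVec_zero, zero_kronecker])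
      (Setting.el_sq _ _ _ _ hφw)
      (by rw [el, ← Matrix.mul_kronecker_mul, vecMulVec_mul, hφDv, vecMulVec_zero, kronecker_zero])
    rw [show vecMulVec a b ⊗ₖ D * el (1 : A1) w φ = el (vecMulVec a b) (D *ᵥ w) φ by
      rw [el, el, ← Matrix.mul_kronecker_mul, mul_one, mul_vecMulVec]] at hW
    refine hG ⟨_, _, _, hφD w, hw, hφ0, fun c e => ?_, hW⟩
    have h1 := congrArg (fun Z => Z * Z) e
    simp only [vecMulVec_mul_vecMulVec, hba, zero_smul, vecMulVec_zero, smul_mul_smul_comm, mul_one] at h1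
    have := congrFun (congrFun h1 ⟨0, by omega⟩) ⟨0, by omega⟩
    simp at this
    exact hab0 (by rw [e, this, zero_smul])
  -- a row cannot lie in a block
  obtain ⟨ψ0, hψ0⟩ := exists_dot_eq_one hv
  obtain ⟨z0, hz0⟩ : ∃ z0 : V2, ψ0 ⬝ᵥ z0 = 1 := ⟨v, hψ0⟩
  set Gi : Big := ((g⁻¹ : G) : Big) * P ⊗ₖ (1 : Matrix (Fin k) (Fin k) F) with hGi
  have hGi0 : ∀ ψ : V2, ψ ⬝ᵥ v = 0 → ∀ y : V2, el (1 : A1) y ψ * Gi = 0 := by
    intro ψ hψ y
    have h1 := hzero ψ hψ
    rw [Matrix.mul_assoc, Matrix.mul_assoc, ← hGi] at h1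
    have h2 := gl_cancel g h1
    rw [Matrix.mul_zero] at h2
    rw [show el (1 : A1) y ψ = el (1 : A1) y ψ0 * el (1 : A1) v ψ by rw [el_mul, hψ0, one_smul, one_mul],
      Matrix.mul_assoc, h2, Matrix.mul_zero]
  have hfac : Gi = el (1 : A1) v ψ0 * Gi := by
    rw [← sub_eq_zero, ← sub_eq_zero]
    have e : (1 : Big) - el (1 : A1) v ψ0 =
        ∑ c : Fin k, el (1 : A1) (Pi.single c 1) (Pi.single c 1 - v c • ψ0) := by
      rw [← sum_el_one]
      simp only [el, vecMulVec_sub, kronecker_sub', Finset.sum_sub_distrib]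
      congr 1
      rw [← sum_kronecker_right]
      congr 1
      ext i j
      simp [Matrix.sum_apply, vecMulVec_apply, Pi.single_apply]
    rw [sub_zero]
    calc Gi - el (1 : A1) v ψ0 * Gi = ((1 : Big) - el (1 : A1) v ψ0) * Gi := by
          rw [sub_mul, Matrix.one_mul]
      _ = 0 := by
          rw [e, Matrix.sum_mul]
          refine Finset.sum_eq_zero fun c _ => hGi0 _ ?_ _
          rw [sub_dotProduct, smul_dotProduct, hψ0, smul_eq_mul, mul_one]
          simp
  let L : V1 →ₗ[F] (Fin m × Fin k → F) :=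
    { toFun := fun u => (g : Big) *ᵥ tens u v
      map_add' := fun x y => by rw [← mulVec_add]; congr 1; ext p; simp [tens, add_mul]
      map_smul' := fun c x => by rw [RingHom.id_apply, ← mulVec_smul]; congr 1; ext p; simp [tens, mul_assoc] }
  let R' : V2 →ₗ[F] (Fin m × Fin k → F) :=
    { toFun := fun w => tens a w
      map_add' := fun x y => by ext p; simp [tens, mul_add]
      map_smul' := fun c x => by ext p; simp [tens]; ring }
  have hR'inj : Function.Injective R' := fun x y hxy => by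
    obtain ⟨i, hi⟩ := Function.ne_iff.1 ha
    funext d
    exact mul_left_cancel₀ hi (congrFun hxy (i, d))
  have hle : LinearMap.range R' ≤ LinearMap.range L := by
    rintro _ ⟨w, rfl⟩
    refine ⟨ctr ψ0 (Gi *ᵥ tens a w), ?_⟩
    show (g : Big) *ᵥ tens _ v = tens a w
    rw [← one_mulVec (ctr ψ0 (Gi *ᵥ tens a w)), ← el_mulVec, mulVec_mulVec _ (el (1 : A1) v ψ0), ← hfac,
      mulVec_mulVec, hGi, ← Matrix.mul_assoc, ← Units.val_mul, mul_inv_cancel, Units.val_one, Matrix.one_mul,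
      kron_mulVec_tens, one_mulVec, vecMulVec_mulVec, op_smul_eq_smul, hχ1, one_smul]
  have h1 := Submodule.finrank_mono hle
  rw [LinearMap.finrank_range_of_inj hR'inj, Module.finrank_fintype_fun_eq_card, Fintype.card_fin] at h1
  have h2 := LinearMap.finrank_range_le L
  rw [Module.finrank_fintype_fun_eq_card, Fintype.card_fin] at h2
  omega
where
  kronecker_sub' {A : A1} {B C : Matrix (Fin k) (Fin k) F} : A ⊗ₖ (B - C) = A ⊗ₖ B - A ⊗ₖ C := by
    ext ⟨i, c⟩ ⟨j, d⟩
    simp [kroneckerMap_apply, mul_sub]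

end

end Cfsg.Agent.Lib.TensorMax.Lemmas
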