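import Mathlib.LinearAlgebra.Matrix.ToLin
import Mathlib.Algebra.Algebra.Subalgebra.Basic
import Cfsg.Agent.Lib.Subspaces.FormVec

/-!
A matrix subalgebra normalised by the transvections and not scalar is everything.
-/

set_option autoImplicit false

namespace Cfsg.Agent.Lib.TensorMax.FullAlgebra

open Matrix Cfsg.Agent.Lib.Subspaces.Transvection Cfsg.Agent.Lib.Subspaces.FormVec

variable {ι : Type} [Fintype ι] [DecidableEq ι] {F : Type*} [Field F]

local notation "Mat" => Matrix ι ι F

theorem exists_outside {a b : ι → F} {T : Submodule F (ι → F)} (h : 1 + Module.finrank F T < Fintype.card ι) :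
    ∃ z, z ∉ T ∧ a ⬝ᵥ z = 0 := by
  obtain ⟨z, hz, hza⟩ := exists_common_zero_not_mem T ![a] h
  exact ⟨z, hz, hza 0⟩

omit [Fintype ι] [DecidableEq ι] in
theorem finrank_singleton_le (a : ι → F) : Module.finrank F (Submodule.span F {a}) ≤ 1 :=
  (finrank_span_le_card _).trans (by simp)

/-- A vector not an eigenvector, for a non-scalar matrix. -/
theorem exists_not_eigen {A : Mat} (h : ∀ c : F, A ≠ c • 1) : ∃ a, A *ᵥ a ∉ Submodule.span F {a} := by
  by_contra hc
  push Not at hc
  choose c hc' using fun a => Submodule.mem_span_singleton.1 (hc a)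
  by_cases hι : Nonempty ι
  swap
  · exact h 0 (Matrix.ext fun i => absurd ⟨i⟩ hι)
  obtain ⟨i0⟩ := hι
  refine h (c (Pi.single i0 1)) (Matrix.ext fun i j => ?_)
  have hj : ∀ j i, A i j = if i = j then c (Pi.single j 1) else 0 := fun j i => by
    have := congrFun (hc' (Pi.single j 1)) i
    simp [mulVec_single_one, Pi.single_apply] at this
    exact this.symm
  have heq : c (Pi.single j 1) = c (Pi.single i0 1) := by
    by_cases hji : j = i0
    · rw [hji]
    have h1 := congrFun (hc' (Pi.single j 1 + Pi.single i0 1)) j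
    have h2 := congrFun (hc' (Pi.single j 1 + Pi.single i0 1)) i0
    simp [mulVec_add, mulVec_single_one, hj, hji, Ne.symm hji] at h1 h2
    rw [← h1, ← h2]
  rw [hj, Matrix.smul_apply, Matrix.one_apply, heq]
  split_ifs <;> simp

theorem eq_top_of_invariant (S : Subalgebra F Mat) (hι : 2 ≤ Fintype.card ι)
    (hex : 3 ≤ Fintype.card ι ∨ ∃ t : F, t ≠ 0 ∧ t ≠ 1)
    (hinv : ∀ a b : ι → F, b ⬝ᵥ a = 0 → ∀ A ∈ S, (1 + vecMulVec a b) * A * (1 - vecMulVec a b) ∈ S)
    {A₀ : Mat} (hA₀ : A₀ ∈ S) (hns : ∀ c : F, A₀ ≠ c • 1) : S = ⊤ := by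
  have hmul : ∀ a b a' b' : ι → F, vecMulVec a b * vecMulVec a' b' = (b ⬝ᵥ a') • vecMulVec a b' := by
    intro a b a' b'
    rw [vecMulVec_mul_vecMulVec, vecMulVec_smul]
  have hD : ∀ a b : ι → F, b ⬝ᵥ a = 0 → ∀ A ∈ S, ∀ t : F,
      t • (vecMulVec a b * A - A * vecMulVec a b) - (t * t) • (vecMulVec a b * A * vecMulVec a b) ∈ S := by
    intro a b hab A hA t
    have h1 := sub_mem (hinv (t • a) b (by rw [dotProduct_smul, hab, smul_zero]) A hA) hA
    convert h1 using 1
    rw [smul_vecMulVec]
    simp only [add_mul, mul_sub, one_mul, mul_one, Matrix.smul_mul, Matrix.mul_smul, smul_sub, smul_smul]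
    abel
  have hNAN : ∀ a b : ι → F, ∀ A : Mat,
      vecMulVec a b * A * vecMulVec a b = (b ⬝ᵥ (A *ᵥ a)) • vecMulVec a b := by
    intro a b A
    rw [vecMulVec_mul, hmul, ← dotProduct_mulVec]
  -- the axes attached to a centre
  have key : ∀ a : ι → F, ∀ A ∈ S, A *ᵥ a ∉ Submodule.span F {a} →
      ∀ b, b ⬝ᵥ a = 0 → vecMulVec a b ∈ S := by
    intro a A hA hAa b hb
    have ha0 : a ≠ 0 := fun e => hAa (by rw [e, mulVec_zero]; exact Submodule.zero_mem _)
    obtain ⟨b1, hb1, hb1A⟩ := exists_functional hAa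
    have hb1a : b1 ⬝ᵥ a = 0 := hb1 a (Submodule.mem_span_singleton_self a)
    -- enough to reach every axis on which `A a` does not vanish
    suffices hgen : ∀ b', b' ⬝ᵥ a = 0 → b' ⬝ᵥ (A *ᵥ a) ≠ 0 → vecMulVec a b' ∈ S by
      by_cases hbA : b ⬝ᵥ (A *ᵥ a) = 0
      · have h1 := hgen (b + b1) (by rw [add_dotProduct, hb, hb1a, add_zero])
          (by rw [add_dotProduct, hbA, hb1A, zero_add]; exact one_ne_zero)
        have h2 := sub_mem h1 (hgen b1 hb1a (by rw [hb1A]; exact one_ne_zero))
        rwa [vecMulVec_add, add_sub_cancel_right] at h2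
      · exact hgen b hb hbA
    intro b' hb' hbA
    by_cases ht : ∃ t : F, t ≠ 0 ∧ t ≠ 1
    · obtain ⟨t, ht0, ht1⟩ := ht
      have h1 := sub_mem (hD a b' hb' A hA t) (S.smul_mem (hD a b' hb' A hA 1) t)
      have e : t • (vecMulVec a b' * A - A * vecMulVec a b') - (t * t) • (vecMulVec a b' * A * vecMulVec a b') -
          t • ((1 : F) • (vecMulVec a b' * A - A * vecMulVec a b') -
            ((1 : F) * 1) • (vecMulVec a b' * A * vecMulVec a b')) =
          (t - t * t) • (vecMulVec a b' * A * vecMulVec a b') := by module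
      rw [e, hNAN, smul_smul] at h1
      have h2 := S.smul_mem h1 ((t - t * t) * (b' ⬝ᵥ (A *ᵥ a)))⁻¹
      rwa [inv_smul_smul₀] at h2
      exact mul_ne_zero (by rw [show t - t * t = t * (1 - t) by ring]
                            exact mul_ne_zero ht0 (sub_ne_zero.2 ht1.symm)) hbA
    · have h3 : 3 ≤ Fintype.card ι := hex.resolve_right ht
      -- an axis killing `a` and `A a`
      obtain ⟨c, hc0, hc⟩ := exists_common_zero_not_mem (⊥ : Submodule F (ι → F)) ![a, A *ᵥ a]
        (by rw [finrank_bot]; omega)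
      replace hc0 : c ≠ 0 := by simpa using hc0
      have hca : c ⬝ᵥ a = 0 := by rw [dotProduct_comm]; exact hc 0
      have hcA : c ⬝ᵥ (A *ᵥ a) = 0 := by rw [dotProduct_comm]; exact hc 1
      have hac : vecMulVec a c ∈ S := by
        have h1 := sub_mem (sub_mem (hD a (b' + c) (by rw [add_dotProduct, hb', hca, add_zero]) A hA 1)
          (hD a b' hb' A hA 1)) (hD a c hca A hA 1)
        have h2 := S.smul_mem h1 (-(b' ⬝ᵥ (A *ᵥ a))⁻¹)
        have e : (b' ⬝ᵥ (A *ᵥ a)) • (-vecMulVec a c) =
            (1 : F) • (vecMulVec a (b' + c) * A - A * vecMulVec a (b' + c)) -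
              ((1 : F) * 1) • (vecMulVec a (b' + c) * A * vecMulVec a (b' + c)) -
            ((1 : F) • (vecMulVec a b' * A - A * vecMulVec a b') -
              ((1 : F) * 1) • (vecMulVec a b' * A * vecMulVec a b')) -
            ((1 : F) • (vecMulVec a c * A - A * vecMulVec a c) -
              ((1 : F) * 1) • (vecMulVec a c * A * vecMulVec a c)) := by
          rw [hNAN a (b' + c) A, hNAN a b' A, hNAN a c A, add_dotProduct, hcA, add_zero, vecMulVec_add,
            Matrix.add_mul, Matrix.mul_add]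
          module
        rw [← e, neg_smul, smul_smul, inv_mul_cancel₀ hbA, one_smul, neg_neg] at h2
        exact h2
      -- a second centre
      obtain ⟨z, hz, hzb⟩ := exists_outside (a := b') (b := c) (T := Submodule.span F {a})
        (by have := finrank_singleton_le a; omega)
      obtain ⟨a'', hca'', hba''⟩ : ∃ a'', c ⬝ᵥ a'' = 1 ∧ b' ⬝ᵥ a'' = 0 := by
        have hcs : c ∉ Submodule.span F {b'} := fun hm => by
          obtain ⟨d, hd⟩ := Submodule.mem_span_singleton.1 hm
          rw [← hd, smul_dotProduct, smul_eq_mul, mul_eq_zero] at hcA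
          exact hc0 (by rw [← hd, hcA.resolve_right hbA, zero_smul])
        obtain ⟨w, hw, hwc⟩ := exists_functional hcs
        exact ⟨w, by rw [dotProduct_comm]; exact hwc,
          by rw [dotProduct_comm]; exact hw b' (Submodule.mem_span_singleton_self b')⟩
      have hNa : vecMulVec a c *ᵥ a'' = a := by
        rw [vecMulVec_mulVec, op_smul_eq_smul, hca'', one_smul]
      have ha'' : a ∉ Submodule.span F {a''} := fun hm => by
        obtain ⟨d, hd⟩ := Submodule.mem_span_singleton.1 hm
        rw [← hd, dotProduct_smul, hca'', smul_eq_mul, mul_one] at hca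
        exact ha0 (by rw [← hd, hca, zero_smul])
      -- second spreading step
      have h4 : vecMulVec a'' b' ∈ S := by
        obtain ⟨e, he0, he⟩ := exists_common_zero_not_mem (⊥ : Submodule F (ι → F)) ![a'', a]
          (by rw [finrank_bot]; omega)
        have hD' := fun b0 (h0 : b0 ⬝ᵥ a'' = 0) => hD a'' b0 h0 _ hac 1
        obtain ⟨b2, hb2, hb2a⟩ := exists_functional ha''
        have hb2'' : b2 ⬝ᵥ a'' = 0 := hb2 _ (Submodule.mem_span_singleton_self a'')
        have h1 := sub_mem (sub_mem (hD' (b2 + b') (by rw [add_dotProduct, hb2'', hba'', add_zero]))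
          (hD' b2 hb2'')) (hD' b' hba'')
        have h2 := S.smul_mem h1 (-1 : F)
        have e : -vecMulVec a'' b' =
            (1 : F) • (vecMulVec a'' (b2 + b') * vecMulVec a c - vecMulVec a c * vecMulVec a'' (b2 + b')) -
              ((1 : F) * 1) • (vecMulVec a'' (b2 + b') * vecMulVec a c * vecMulVec a'' (b2 + b')) -
            ((1 : F) • (vecMulVec a'' b2 * vecMulVec a c - vecMulVec a c * vecMulVec a'' b2) -
              ((1 : F) * 1) • (vecMulVec a'' b2 * vecMulVec a c * vecMulVec a'' b2)) -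
            ((1 : F) • (vecMulVec a'' b' * vecMulVec a c - vecMulVec a c * vecMulVec a'' b') -
              ((1 : F) * 1) • (vecMulVec a'' b' * vecMulVec a c * vecMulVec a'' b')) := by
          rw [hNAN a'' (b2 + b'), hNAN a'' b2, hNAN a'' b', hNa, add_dotProduct, hb2a, hb', add_zero,
            vecMulVec_add, Matrix.add_mul, Matrix.mul_add]
          module
        rw [← e, neg_smul, one_smul, neg_neg] at h2
        exact h2
      have h5 := S.mul_mem hac h4
      rwa [hmul, hca'', one_smul] at h5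
  obtain ⟨a₀, ha₀⟩ := exists_not_eigen hns
  have ha₀0 : a₀ ≠ 0 := fun e => ha₀ (by rw [e, mulVec_zero]; exact Submodule.zero_mem _)
  have hout : ∀ a b : ι → F, b ⬝ᵥ a = 0 → vecMulVec a b ∈ S := by
    intro a b hab
    by_cases hmem : a ∈ Submodule.span F {a₀}
    · obtain ⟨d, rfl⟩ := Submodule.mem_span_singleton.1 hmem
      rcases eq_or_ne d 0 with rfl | hd
      · rw [zero_smul, zero_vecMulVec]; exact zero_mem _
      rw [dotProduct_smul, smul_eq_mul, mul_eq_zero] at hab
      rw [smul_vecMulVec]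
      exact S.smul_mem (key a₀ A₀ hA₀ ha₀ b (hab.resolve_left hd)) d
    · obtain ⟨c, hc, hca⟩ := exists_functional hmem
      have hN := key a₀ A₀ hA₀ ha₀ c (hc _ (Submodule.mem_span_singleton_self a₀))
      refine key a _ hN ?_ b hab
      rw [vecMulVec_mulVec, op_smul_eq_smul, hca, one_smul]
      intro hm
      obtain ⟨d, hd⟩ := Submodule.mem_span_singleton.1 hm
      rcases eq_or_ne d 0 with rfl | hd0
      · exact ha₀0 (by rw [← hd, zero_smul])
      · exact hmem (Submodule.mem_span_singleton.2 ⟨d⁻¹, by rw [← hd, inv_smul_smul₀ hd0]⟩)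
  have hvs : ∀ (i j : ι) (c d : F), vecMulVec (Pi.single i c) (Pi.single j d) = Matrix.single i j (c * d) := by
    intro i j c d
    ext k l
    by_cases hk : k = i <;> by_cases hl : l = j <;>
      simp [vecMulVec_apply, Matrix.single, hk, hl, Ne.symm, eq_comm]
  have hsingle : ∀ i j : ι, ∀ c : F, Matrix.single i j c ∈ S := by
    intro i j c
    by_cases hij : i = j
    · subst hij
      obtain ⟨k, hk⟩ : ∃ k, k ≠ i := Fintype.exists_ne_of_one_lt_card (by omega) i
      have h1 := S.mul_mem (hout (Pi.single i c) (Pi.single k 1) (by simp [hk]))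
        (hout (Pi.single k 1) (Pi.single i (1 : F)) (by simp [hk.symm]))
      rwa [hmul, dotProduct_single, Pi.single_eq_same, mul_one, one_smul,
        hvs, mul_one] at h1
    · have h1 := hout (Pi.single i c) (Pi.single j (1 : F)) (by simp [Ne.symm hij])
      rwa [hvs, mul_one] at h1
  refine eq_top_iff.2 fun A _ => ?_
  rw [Matrix.matrix_eq_sum_single A]
  exact sum_mem fun i _ => sum_mem fun j _ => hsingle i j _

end Cfsg.Agent.Lib.TensorMax.FullAlgebra
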