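import Mathlib.LinearAlgebra.Matrix.Kronecker
import Cfsg.Prelude.Def_GeometricClasses
import Cfsg.Agent.Lib.TensorMax.FullAlgebra

/-!
Block calculus on a tensor product space: contractions of a big matrix and the elements `1 + X` of a group.
-/

set_option autoImplicit false

namespace Cfsg.Agent.Lib.TensorMax.Block

open Matrix Kronecker
open Cfsg.Agent.Lib.Subspaces.Transvection

variable {m k : ℕ} {F : Type*} [Field F]

local notation "V1" => Fin m → F
local notation "V2" => Fin k → F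
local notation "A1" => Matrix (Fin m) (Fin m) F
local notation "Big" => Matrix (Fin m × Fin k) (Fin m × Fin k) F

/-- `1 ⊗ (v φ)` and more generally `A ⊗ (v φ)`. -/
def el (A : Matrix (Fin m) (Fin m) F) (v φ : Fin k → F) :
    Matrix (Fin m × Fin k) (Fin m × Fin k) F := A ⊗ₖ vecMulVec v φ

/-- The contraction of a big matrix by a functional and a vector of the second factor. -/
def blk (G : Matrix (Fin m × Fin k) (Fin m × Fin k) F) (ψ w : Fin k → F) : Matrix (Fin m) (Fin m) F :=
  fun i j => ∑ a : Fin k, ∑ b : Fin k, ψ a * G (i, a) (j, b) * w b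

theorem el_apply (A : A1) (v φ : V2) (i j : Fin m) (a b : Fin k) :
    el A v φ (i, a) (j, b) = A i j * (v a * φ b) := rfl

theorem el_mul (A B : A1) (v φ w ψ : V2) : el A v φ * el B w ψ = (φ ⬝ᵥ w) • el (A * B) v ψ := by
  rw [el, el, el, ← Matrix.mul_kronecker_mul, vecMulVec_mul_vecMulVec, vecMulVec_smul, kronecker_smul]

theorem el_sandwich (G : Big) (v ψ w φ : V2) :
    el (1 : A1) v ψ * G * el 1 w φ = el (blk G ψ w) v φ := by
  ext ⟨i, a⟩ ⟨j, b⟩
  simp only [Matrix.mul_apply, el_apply, blk, Fintype.sum_prod_type, Matrix.one_apply, ite_mul, one_mul,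
    zero_mul, Finset.sum_mul, mul_ite, mul_zero]
  simp only [Finset.sum_ite_irrel, Finset.sum_const_zero, Finset.sum_ite_eq, Finset.sum_ite_eq',
    Finset.mem_univ, if_true]
  rw [Finset.sum_comm]
  exact Finset.sum_congr rfl fun c _ => Finset.sum_congr rfl fun d _ => by ring

theorem el_inj {A B : A1} {v φ : V2} (hv : v ≠ 0) (hφ : φ ≠ 0) (h : el A v φ = el B v φ) : A = B := by
  obtain ⟨a, ha⟩ := Function.ne_iff.1 hv
  obtain ⟨b, hb⟩ := Function.ne_iff.1 hφ
  ext i j
  have := congrFun (congrFun h (i, a)) (j, b)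
  rw [el_apply, el_apply] at this
  exact mul_right_cancel₀ (mul_ne_zero ha hb) this

theorem el_zero_left (v φ : V2) : el (0 : A1) v φ = 0 := by rw [el, zero_kronecker]

theorem el_smul (c : F) (A : A1) (v φ : V2) : el (c • A) v φ = c • el A v φ := by rw [el, el, smul_kronecker]

theorem el_add (A B : A1) (v φ : V2) : el (A + B) v φ = el A v φ + el B v φ := by rw [el, el, el, add_kronecker]

theorem el_vec_smul (c : F) (A : A1) (v φ : V2) : el A (c • v) φ = el (c • A) v φ := by
  rw [el, el, smul_vecMulVec, kronecker_smul, smul_kronecker]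

theorem el_ax_smul (c : F) (A : A1) (v φ : V2) : el A v (c • φ) = el (c • A) v φ := by
  rw [el, el, vecMulVec_smul, kronecker_smul, smul_kronecker]

theorem kron_one_mul_el (N : Matrix (Fin k) (Fin k) F) (A : A1) (v φ : V2) :
    (1 : A1) ⊗ₖ N * el A v φ = el A (N *ᵥ v) φ := by
  rw [el, el, ← Matrix.mul_kronecker_mul, one_mul, mul_vecMulVec]

theorem sum_kronecker_right {α : Type} (s : Finset α) (A : A1) (f : α → Matrix (Fin k) (Fin k) F) :
    A ⊗ₖ (∑ i ∈ s, f i) = ∑ i ∈ s, A ⊗ₖ f i := by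
  classical
  induction s using Finset.induction_on with
  | empty => simp
  | insert a s ha ih => rw [Finset.sum_insert ha, Finset.sum_insert ha, kronecker_add, ih]

theorem sum_el_one : ∑ a : Fin k, el (1 : A1) (Pi.single a 1) (Pi.single a 1) = 1 := by
  rw [show (∑ a : Fin k, el (1 : A1) (Pi.single a 1) (Pi.single a 1)) =
      (1 : A1) ⊗ₖ ∑ a : Fin k, vecMulVec (Pi.single a (1 : F)) (Pi.single a 1) from
    (sum_kronecker_right _ _ _).symm]
  have : (∑ a : Fin k, vecMulVec (Pi.single a (1 : F)) (Pi.single a 1)) = 1 := by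
    ext b c
    simp only [Matrix.sum_apply, vecMulVec_apply, Pi.single_apply, Matrix.one_apply, ite_mul, one_mul,
      zero_mul, Finset.sum_ite_eq, Finset.mem_univ, if_true]
    simp [eq_comm]
  rw [this, one_kronecker_one]

/-- The group has an element `1 + X`. -/
def InM (M : Subgroup (GL (Fin m × Fin k) F)) (X : Matrix (Fin m × Fin k) (Fin m × Fin k) F) : Prop :=
  ∃ g ∈ M, (g : Matrix (Fin m × Fin k) (Fin m × Fin k) F) = 1 + X

variable {M : Subgroup (GL (Fin m × Fin k) F)}

theorem InM.zero : InM M (0 : Big) := ⟨1, M.one_mem, by simp⟩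

theorem InM.add {X Y : Big} (hX : InM M X) (hY : InM M Y) (h : X * Y = 0) : InM M (X + Y) := by
  obtain ⟨g, hg, hgX⟩ := hX
  obtain ⟨g', hg', hgY⟩ := hY
  refine ⟨g * g', M.mul_mem hg hg', ?_⟩
  rw [Units.val_mul, hgX, hgY, add_mul, one_mul, mul_add, mul_one, h, add_zero]
  abel

theorem inv_val {g : GL (Fin m × Fin k) F} {X : Big} (hg : (g : Big) = 1 + X) (hX : X * X = 0) :
    ((g⁻¹ : GL (Fin m × Fin k) F) : Big) = 1 - X :=
  Units.inv_eq_of_mul_eq_one_right (by rw [hg, add_mul, mul_sub, mul_sub, hX, one_mul, one_mul, mul_one]; abel)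

/-- The commutator. -/
theorem InM.comm {X Y : Big} (hX : InM M X) (hY : InM M Y) (hXX : X * X = 0) (hYY : Y * Y = 0)
    (hYX : Y * X = 0) : InM M (X * Y) := by
  obtain ⟨g, hg, hgX⟩ := hX
  obtain ⟨h, hh, hhY⟩ := hY
  refine ⟨g * h * g⁻¹ * h⁻¹, M.mul_mem (M.mul_mem (M.mul_mem hg hh) (M.inv_mem hg)) (M.inv_mem hh), ?_⟩
  have e1 : (1 + X) * (1 + Y) * (1 - X) = 1 + Y + X * Y := by
    simp only [add_mul, mul_add, mul_sub, one_mul, mul_one, Matrix.mul_assoc, hXX, hYX, mul_zero]
    abel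
  rw [Units.val_mul, Units.val_mul, Units.val_mul, inv_val hgX hXX, inv_val hhY hYY, hgX, hhY, e1]
  simp only [add_mul, mul_sub, one_mul, mul_one, Matrix.mul_assoc, hYY, mul_zero]
  abel

theorem InM.conj {X : Big} (hX : InM M X) {h : GL (Fin m × Fin k) F} (hh : h ∈ M) :
    InM M ((h : Big) * X * ((h⁻¹ : GL (Fin m × Fin k) F) : Big)) := by
  obtain ⟨g, hg, hgX⟩ := hX
  refine ⟨h * g * h⁻¹, M.mul_mem (M.mul_mem hh hg) (M.inv_mem hh), ?_⟩
  rw [Units.val_mul, Units.val_mul, hgX, mul_add, mul_one, add_mul, ← Units.val_mul, mul_inv_cancel, Units.val_one]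

/-- The Kronecker product of two invertible matrices. -/
def kronGL (a : GL (Fin m) F) (b : GL (Fin k) F) : GL (Fin m × Fin k) F where
  val := (a : A1) ⊗ₖ (b : Matrix (Fin k) (Fin k) F)
  inv := ((a⁻¹ : GL (Fin m) F) : A1) ⊗ₖ ((b⁻¹ : GL (Fin k) F) : Matrix (Fin k) (Fin k) F)
  val_inv := by
    rw [← Matrix.mul_kronecker_mul, ← Units.val_mul, ← Units.val_mul, mul_inv_cancel, mul_inv_cancel,
      Units.val_one, Units.val_one, one_kronecker_one]
  inv_val := by
    rw [← Matrix.mul_kronecker_mul, ← Units.val_mul, ← Units.val_mul, inv_mul_cancel, inv_mul_cancel,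
      Units.val_one, Units.val_one, one_kronecker_one]

theorem kronGL_mem (a : GL (Fin m) F) (b : GL (Fin k) F) :
    kronGL a b ∈ Cfsg.Geo.kroneckerSubgroup m k F := ⟨a, b, rfl⟩

end Cfsg.Agent.Lib.TensorMax.Block
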