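import Cfsg.Agent.Lib.TensorMax.Block
import Cfsg.Agent.Lib.Linear.FusionPSL

/-!
Overgroups of the tensor product stabiliser: the coefficient algebra of the block root elements and the
reductions when it is scalar.
-/

set_option autoImplicit false

namespace Cfsg.Agent.Lib.TensorMax.Good

open Matrix Kronecker
open Cfsg.Agent.Lib.Subspaces.Transvection Cfsg.Agent.Lib.Subspaces.FormVec
  Cfsg.Agent.Lib.TensorMax.Block

variable {m k : ℕ} {F : Type*} [Field F] {M : Subgroup (GL (Fin m × Fin k) F)}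

local notation "V1" => Fin m → F
local notation "V2" => Fin k → F
local notation "A1" => Matrix (Fin m) (Fin m) F
local notation "Big" => Matrix (Fin m × Fin k) (Fin m × Fin k) F

/-- The group contains the elements of determinant one of the tensor product stabiliser. -/
structure Setting (M : Subgroup (GL (Fin m × Fin k) F)) : Prop where
  mem : ∀ g ∈ Cfsg.Geo.kroneckerSubgroup m k F, (g : Matrix (Fin m × Fin k) (Fin m × Fin k) F).det = 1 → g ∈ M
  hm : 2 ≤ m
  hk : 3 ≤ k
  hex : 3 ≤ m ∨ ∃ t : F, t ≠ 0 ∧ t ≠ 1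

/-- A block root element with a coefficient which is not scalar. -/
def Good (M : Subgroup (GL (Fin m × Fin k) F)) : Prop :=
  ∃ (A : Matrix (Fin m) (Fin m) F) (v φ : Fin k → F), φ ⬝ᵥ v = 0 ∧ v ≠ 0 ∧ φ ≠ 0 ∧
    (∀ c : F, A ≠ c • 1) ∧ InM M (el A v φ)

namespace Setting

variable (S : Setting M)
include S

omit S in
theorem exists_ne_orth {l : ℕ} (s : Fin l → V2) (h : l < k) : ∃ z : V2, z ≠ 0 ∧ ∀ i, z ⬝ᵥ s i = 0 := by
  obtain ⟨z, hz, hzs⟩ := exists_common_zero_not_mem (⊥ : Submodule F V2) s (by rw [finrank_bot, Fintype.card_fin]; omega)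
  exact ⟨z, by simpa using hz, fun i => by rw [dotProduct_comm]; exact hzs i⟩

theorem hT (c : F) {v φ : V2} (h : φ ⬝ᵥ v = 0) : InM M (el (c • (1 : A1)) v φ) := by
  have h' : φ ⬝ᵥ (c • v) = 0 := by rw [dotProduct_smul, h, smul_zero]
  refine ⟨kronGL 1 (tv (c • v) φ), S.mem _ (kronGL_mem _ _) ?_, ?_⟩
  · show Matrix.det ((1 : A1) ⊗ₖ (tv (c • v) φ : Matrix (Fin k) (Fin k) F)) = 1
    rw [det_kronecker, det_tv, det_one, one_pow, one_pow, mul_one]
  · show (1 : A1) ⊗ₖ (tv (c • v) φ : Matrix (Fin k) (Fin k) F) = _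
    rw [coe_tv h', kronecker_add, one_kronecker_one, el, smul_kronecker, ← kronecker_smul, ← smul_vecMulVec]

theorem hT1 {v φ : V2} (h : φ ⬝ᵥ v = 0) : InM M (el (1 : A1) v φ) := by
  have := S.hT 1 h
  rwa [one_smul] at this

omit S in
theorem el_sq (A B : A1) (v φ : V2) (h : φ ⬝ᵥ v = 0) : el A v φ * el B v φ = 0 := by
  rw [el_mul, h, zero_smul]

/-- Conjugation by a transvection of the second factor moves root pairs. -/
theorem move {A : A1} {v φ v' φ' : V2} (h : φ ⬝ᵥ v = 0) (hv : v ≠ 0) (hφ : φ ≠ 0) (h' : φ' ⬝ᵥ v' = 0)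
    (hv' : v' ≠ 0) (hφ' : φ' ≠ 0) (hA : InM M (el A v φ)) : InM M (el A v' φ') := by
  have hp : Cfsg.Agent.Lib.AutPSL.IsPair v φ := ⟨hv, hφ, h⟩
  have hp' : Cfsg.Agent.Lib.AutPSL.IsPair v' φ' := ⟨hv', hφ', h'⟩
  obtain ⟨s, hs⟩ := Cfsg.Agent.Lib.Linear.FusionPSL.exists_conj_pair (by have := S.hk; omega) hp hp'
  set b : GL (Fin k) F := Matrix.SpecialLinearGroup.toGL s
  have hb : kronGL (1 : GL (Fin m) F) b ∈ M := by
    refine S.mem _ (kronGL_mem _ _) ?_
    show Matrix.det ((1 : A1) ⊗ₖ (s : Matrix (Fin k) (Fin k) F)) = 1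
    rw [det_kronecker, det_one, Matrix.SpecialLinearGroup.det_coe, one_pow, one_pow, mul_one]
  have := hA.conj hb
  convert this using 1
  have hs' := congrArg (fun x : Matrix.SpecialLinearGroup (Fin k) F => (x : Matrix (Fin k) (Fin k) F)) hs
  simp only [Matrix.SpecialLinearGroup.coe_mul, Cfsg.Agent.Lib.AutPSL.coe_tv hp.orth,
    Cfsg.Agent.Lib.AutPSL.coe_tv hp'.orth] at hs'
  have hone : (s : Matrix (Fin k) (Fin k) F) * ((s⁻¹ : Matrix.SpecialLinearGroup (Fin k) F) : Matrix (Fin k) (Fin k) F) = 1 := by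
    rw [← Matrix.SpecialLinearGroup.coe_mul, mul_inv_cancel, Matrix.SpecialLinearGroup.coe_one]
  rw [mul_add, mul_one, add_mul, hone, add_right_inj] at hs'
  show el A v' φ' = ((1 : A1) ⊗ₖ (s : Matrix (Fin k) (Fin k) F)) * (A ⊗ₖ vecMulVec v φ) *
    (((1 : GL (Fin m) F)⁻¹ : GL (Fin m) F) : A1) ⊗ₖ ((b⁻¹ : GL (Fin k) F) : Matrix (Fin k) (Fin k) F)
  have hbi : ((b⁻¹ : GL (Fin k) F) : Matrix (Fin k) (Fin k) F) =
      ((s⁻¹ : Matrix.SpecialLinearGroup (Fin k) F) : Matrix (Fin k) (Fin k) F) := rfl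
  rw [inv_one, Units.val_one, hbi, ← Matrix.mul_kronecker_mul, ← Matrix.mul_kronecker_mul, one_mul, mul_one, hs']
  rfl

theorem scalar_of (hG : ¬ Good M) {A : A1} {v φ : V2} (h : φ ⬝ᵥ v = 0) (hv : v ≠ 0) (hφ : φ ≠ 0)
    (hA : InM M (el A v φ)) : ∃ c : F, A = c • 1 := by
  by_contra hc
  push Not at hc
  exact hG ⟨A, v, φ, h, hv, hφ, hc, hA⟩

/-- Elements moving everything into one block are tensor root elements. -/
theorem image_block (hG : ¬ Good M) {X : Big} (hX : InM M X) {v ψ : V2} (hψ : ψ ⬝ᵥ v = 1)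
    (h1 : el (1 : A1) v ψ * X = X) (h2 : X * el (1 : A1) v ψ = 0) : ∃ lam : V2, X = el 1 v lam := by
  have hv : v ≠ 0 := fun e => by rw [e, dotProduct_zero] at hψ; exact zero_ne_one hψ
  have hXX : X * X = 0 := by
    calc X * X = X * el (1 : A1) v ψ * X := by rw [Matrix.mul_assoc, h1]
      _ = 0 := by rw [h2, Matrix.zero_mul]
  have key : ∀ w : V2, ∃ c : F, blk X ψ w = c • 1 := by
    intro w
    obtain ⟨φ, hφ0, hφ⟩ := exists_ne_orth ![v, w] (by have := S.hk; omega)
    have hφv : φ ⬝ᵥ v = 0 := hφ 0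
    have hφw : φ ⬝ᵥ w = 0 := hφ 1
    have hYX : el (1 : A1) w φ * X = 0 := by
      rw [← h1, ← Matrix.mul_assoc, el_mul, hφv, zero_smul, Matrix.zero_mul]
    have hc := hX.comm (S.hT1 hφw) hXX (el_sq _ _ _ _ hφw) hYX
    rw [show X * el (1 : A1) w φ = el (blk X ψ w) v φ by rw [← el_sandwich, h1]] at hc
    exact S.scalar_of hG hφv hv hφ0 hc
  choose c hc using key
  refine ⟨∑ a : Fin k, c (Pi.single a 1) • (Pi.single a 1 : V2), ?_⟩
  calc X = el (1 : A1) v ψ * X * ∑ a : Fin k, el (1 : A1) (Pi.single a 1) (Pi.single a 1) := by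
        rw [sum_el_one, Matrix.mul_one, h1]
    _ = ∑ a : Fin k, el (1 : A1) v (c (Pi.single a 1) • (Pi.single a 1 : V2)) := by
        rw [Matrix.mul_sum]
        exact Finset.sum_congr rfl fun a _ => by rw [el_sandwich, hc, el_ax_smul]
    _ = _ := by rw [el, vecMulVec_sum, sum_kronecker_right]; rfl
where
  vecMulVec_sum {v : V2} {f : Fin k → V2} :
      vecMulVec v (∑ a : Fin k, f a) = ∑ a : Fin k, vecMulVec v (f a) := by
    ext i j
    simp [vecMulVec_apply, Finset.sum_apply, Finset.mul_sum, Matrix.sum_apply]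

/-- Elements killing one tensor hyperplane are tensor root elements. -/
theorem kernel_block (hG : ¬ Good M) {X : Big} (hX : InM M X) {z φ : V2} (hz : φ ⬝ᵥ z = 1)
    (h1 : X * el (1 : A1) z φ = X) (h2 : el (1 : A1) z φ * X = 0) : ∃ c : V2, X = el 1 c φ := by
  have hφ : φ ≠ 0 := fun e => by rw [e, zero_dotProduct] at hz; exact zero_ne_one hz
  have hXX : X * X = 0 := by
    calc X * X = X * el (1 : A1) z φ * X := by rw [h1]
      _ = 0 := by rw [Matrix.mul_assoc, h2, Matrix.mul_zero]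
  have key : ∀ ψ : V2, ∃ c : F, blk X ψ z = c • 1 := by
    intro ψ
    obtain ⟨v, hv0, hv⟩ := exists_ne_orth ![φ, ψ] (by have := S.hk; omega)
    have hφv : φ ⬝ᵥ v = 0 := by rw [dotProduct_comm]; exact hv 0
    have hψv : ψ ⬝ᵥ v = 0 := by rw [dotProduct_comm]; exact hv 1
    have hXY : X * el (1 : A1) v ψ = 0 := by
      rw [← h1, Matrix.mul_assoc, el_mul, hφv, zero_smul, Matrix.mul_zero]
    have hc := (S.hT1 hψv).comm hX (el_sq _ _ _ _ hψv) hXX hXY
    rw [show el (1 : A1) v ψ * X = el (blk X ψ z) v φ by rw [← el_sandwich, Matrix.mul_assoc, h1]] at hc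
    exact S.scalar_of hG hφv hv0 hφ hc
  choose c hc using key
  refine ⟨∑ a : Fin k, c (Pi.single a 1) • (Pi.single a 1 : V2), ?_⟩
  calc X = (∑ a : Fin k, el (1 : A1) (Pi.single a 1) (Pi.single a 1)) * X * el (1 : A1) z φ := by
        rw [sum_el_one, Matrix.one_mul, h1]
    _ = ∑ a : Fin k, el (1 : A1) (c (Pi.single a 1) • (Pi.single a 1 : V2)) φ := by
        rw [Matrix.sum_mul, Matrix.sum_mul]
        exact Finset.sum_congr rfl fun a _ => by rw [el_sandwich, hc, el_vec_smul]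
    _ = _ := by rw [el, sum_vecMulVec, sum_kronecker_right]; rfl
where
  sum_vecMulVec {v : V2} {f : Fin k → V2} :
      vecMulVec (∑ a : Fin k, f a) v = ∑ a : Fin k, vecMulVec (f a) v := by
    ext i j
    simp [vecMulVec_apply, Finset.sum_apply, Finset.sum_mul, Matrix.sum_apply]

theorem specialLinear_le (hG : Good M) : Cfsg.Geo.specialLinear (Fin m × Fin k) F ≤ M := by
  classical
  obtain ⟨A₀, v₀, φ₀, h0, hv0, hφ0, hns, hA₀⟩ := hG
  let Alg : Subalgebra F A1 :=
    { carrier := {A | ∀ v φ : V2, φ ⬝ᵥ v = 0 → InM M (el A v φ)}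
      add_mem' := fun {A B} hA hB v φ h => by
        rw [el_add]; exact (hA v φ h).add (hB v φ h) (el_sq _ _ _ _ h)
      mul_mem' := fun {A B} hA hB v φ h => by
        by_cases hv : v = 0
        · rw [el, hv, zero_vecMulVec, kronecker_zero]; exact InM.zero
        by_cases hφ : φ = 0
        · rw [el, hφ, vecMulVec_zero, kronecker_zero]; exact InM.zero
        obtain ⟨w, hw, hwφ⟩ := exists_common_zero_not_mem (Submodule.span F {v}) ![φ] (by
          have : Module.finrank F (Submodule.span F {v}) ≤ 1 := (finrank_span_le_card _).trans (by simp)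
          have := S.hk; rw [Fintype.card_fin]; omega)
        have hφw : φ ⬝ᵥ w = 0 := hwφ 0
        obtain ⟨ψ, hψ, hψw⟩ := exists_functional hw
        have hψv : ψ ⬝ᵥ v = 0 := hψ v (Submodule.mem_span_singleton_self v)
        have hc := (hA v ψ hψv).comm (hB w φ hφw) (el_sq _ _ _ _ hψv) (el_sq _ _ _ _ hφw)
          (by rw [el_mul, h, zero_smul])
        rwa [el_mul, hψw, one_smul] at hc
      algebraMap_mem' := fun c v φ h => by rw [Algebra.algebraMap_eq_smul_one]; exact S.hT c h }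
  have hA₀' : A₀ ∈ Alg := fun v φ h => by
    by_cases hv : v = 0
    · rw [el, hv, zero_vecMulVec, kronecker_zero]; exact InM.zero
    by_cases hφ : φ = 0
    · rw [el, hφ, vecMulVec_zero, kronecker_zero]; exact InM.zero
    exact S.move h0 hv0 hφ0 h hv hφ hA₀
  have hinv : ∀ a b : V1, b ⬝ᵥ a = 0 → ∀ A ∈ Alg, (1 + vecMulVec a b) * A * (1 - vecMulVec a b) ∈ Alg := by
    intro a b hab A hA v φ h
    have hg : kronGL (tv a b) (1 : GL (Fin k) F) ∈ M := by
      refine S.mem _ (kronGL_mem _ _) ?_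
      show Matrix.det ((tv a b : A1) ⊗ₖ (1 : Matrix (Fin k) (Fin k) F)) = 1
      rw [det_kronecker, det_tv, det_one, one_pow, one_pow, mul_one]
    have := (hA v φ h).conj hg
    convert this using 1
    show _ = ((tv a b : A1) ⊗ₖ (1 : Matrix (Fin k) (Fin k) F)) * el A v φ *
      ((((tv a b)⁻¹ : GL (Fin m) F) : A1) ⊗ₖ (((1 : GL (Fin k) F)⁻¹ : GL (Fin k) F) : Matrix (Fin k) (Fin k) F))
    rw [tv_inv hab, coe_tv hab, coe_tv (by rw [neg_dotProduct, hab, neg_zero]), inv_one, Units.val_one, el, el,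
      ← Matrix.mul_kronecker_mul, ← Matrix.mul_kronecker_mul, one_mul, mul_one, vecMulVec_neg, sub_eq_add_neg]
  have hm := S.hm
  have htop := FullAlgebra.eq_top_of_invariant Alg (by rw [Fintype.card_fin]; exact hm)
    (by rw [Fintype.card_fin]; exact S.hex) hinv hA₀' hns
  have hall : ∀ (A : A1) (v φ : V2), φ ⬝ᵥ v = 0 → InM M (el A v φ) := fun A v φ h =>
    (htop ▸ Algebra.mem_top : A ∈ Alg) v φ h
  -- elementary transvections
  have hel : ∀ (i j : Fin m) (a b : Fin k), (i, a) ≠ (j, b) → ∀ c : F,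
      InM M (vecMulVec (Pi.single (i, a) c) (Pi.single (j, b) 1)) := by
    intro i j a b hne c
    have hform : ∀ (i j : Fin m) (a b : Fin k) (c : F),
        el (vecMulVec (Pi.single i c) (Pi.single j 1) : A1) (Pi.single a (1 : F)) (Pi.single b 1) =
          vecMulVec (Pi.single (i, a) c) (Pi.single (j, b) 1) := by
      intro i j a b c
      ext ⟨x, y⟩ ⟨x', y'⟩
      simp only [el_apply, vecMulVec_apply, Pi.single_apply, Prod.mk.injEq]
      split_ifs <;> simp_all
    by_cases hab : a = b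
    · subst hab
      obtain ⟨l, hl⟩ : ∃ l : Fin k, l ≠ a :=
        Fintype.exists_ne_of_one_lt_card (by rw [Fintype.card_fin]; have := S.hk; omega) a
      have hij : i ≠ j := fun e => hne (by rw [e])
      have hc := (hall (vecMulVec (Pi.single i c) (Pi.single i 1)) (Pi.single a 1) (Pi.single l 1) (by simp [hl])).comm
        (hall (vecMulVec (Pi.single i (1 : F)) (Pi.single j 1)) (Pi.single l 1) (Pi.single a 1) (by simp [hl.symm]))
        (el_sq _ _ _ _ (by simp [hl])) (el_sq _ _ _ _ (by simp [hl.symm]))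
        (by rw [el_mul, vecMulVec_mul_vecMulVec]; simp [hij.symm, el_zero_left])
      rwa [el_mul, vecMulVec_mul_vecMulVec, dotProduct_single, Pi.single_eq_same, mul_one, one_smul,
        dotProduct_single, Pi.single_eq_same, mul_one, one_smul, hform] at hc
    · rw [← hform]
      exact hall _ _ _ (by simp [Ne.symm hab])
  refine specialLinear_le_of_fullCenter fun w => (mem_fullCenters (M := M)).1 ?_
  rw [← Finset.univ_sum_single w]
  refine sum_mem fun l _ => ?_
  have hfull : FullCenter M (Pi.single l (1 : F)) := by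
    intro φ hφ
    have hφl : φ l = 0 := by simpa using hφ
    let P : AddSubmonoid (Fin m × Fin k → F) :=
      { carrier := {ψ | ψ l = 0 ∧ tv (Pi.single l 1) ψ ∈ M}
        zero_mem' := ⟨rfl, by rw [tv_zero_right]; exact M.one_mem⟩
        add_mem' := fun {a b} ha hb => ⟨by simp [ha.1, hb.1], by
          rw [← tv_mul_center (by simp [ha.1]) (by simp [hb.1])]; exact M.mul_mem ha.2 hb.2⟩ }
    have hmem : φ ∈ P := by
      rw [← Finset.univ_sum_single φ]
      refine sum_mem fun y _ => ?_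
      rcases eq_or_ne y l with rfl | hy
      · rw [hφl, Pi.single_zero]; exact P.zero_mem
      · have horth : (Pi.single y (φ y) : Fin m × Fin k → F) ⬝ᵥ Pi.single l 1 = 0 := by simp [hy.symm]
        refine ⟨by simp [hy.symm], ?_⟩
        obtain ⟨g, hg, hgX⟩ := hel l.1 y.1 l.2 y.2 (by simpa using hy.symm) (φ y)
        convert hg using 1
        refine Units.ext ?_
        rw [coe_tv horth, hgX]
        congr 1
        ext p q
        simp only [vecMulVec_apply, Pi.single_apply]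
        split_ifs <;> simp
    exact hmem.2
  have := (fullCenters M).smul_mem (w l) ((mem_fullCenters (M := M)).2 hfull)
  rwa [← Pi.single_smul, smul_eq_mul, mul_one] at this

end Setting

end Cfsg.Agent.Lib.TensorMax.Good
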