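import Cfsg.Agent.Lib.TensorMax.Lemmas
import Cfsg.Agent.Lib.Frobenius.Complement
import Cfsg.Agent.Lib.Induced.FrobeniusKernel

/-!
With a scalar coefficient algebra an overgroup of the tensor product stabiliser is contained in it: a
Frobenius complement would contain a non-cyclic elementary abelian subgroup.
-/

set_option autoImplicit false

namespace Cfsg.Agent.Lib.TensorMax.Rigid

open Matrix Kronecker
open Cfsg.Agent.Lib.Subspaces.Transvection Cfsg.Agent.Lib.Subspaces.FormVec
  Cfsg.Agent.Lib.TensorMax.Block Cfsg.Agent.Lib.TensorMax.Good Cfsg.Agent.Lib.TensorMax.Lemmas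

variable {m k : ℕ} {F : Type*} [Field F] {M : Subgroup (GL (Fin m × Fin k) F)}

local notation "V1" => Fin m → F
local notation "V2" => Fin k → F
local notation "A1" => Matrix (Fin m) (Fin m) F
local notation "K2" => Matrix (Fin k) (Fin k) F
local notation "Big" => Matrix (Fin m × Fin k) (Fin m × Fin k) F
local notation "G" => GL (Fin m × Fin k) F

/-- Pointwise dependent linear maps, the second of rank at least two. -/
theorem smul_of_dependent {V W : Type*} [AddCommGroup V] [Module F V] [AddCommGroup W] [Module F W]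
    (f p : V →ₗ[F] W) {w1 w2 : V} (h1 : p w1 ≠ 0) (h2 : p w2 ∉ Submodule.span F {p w1})
    (h : ∀ w, p w ≠ 0 → f w ∈ Submodule.span F {p w}) : ∃ μ : F, f = μ • p := by
  obtain ⟨μ, hμ⟩ := Submodule.mem_span_singleton.1 (h w1 h1)
  refine ⟨μ, ?_⟩
  have hout : ∀ w, p w ∉ Submodule.span F {p w1} → f w = μ • p w := by
    intro w hw
    have hw0 : p w ≠ 0 := fun e => hw (e ▸ Submodule.zero_mem _)
    obtain ⟨ν, hν⟩ := Submodule.mem_span_singleton.1 (h w hw0)
    have hs : p (w + w1) ≠ 0 := fun e => hw (by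
      rw [map_add, add_eq_zero_iff_eq_neg] at e
      rw [e]
      exact Submodule.neg_mem _ (Submodule.mem_span_singleton_self _))
    obtain ⟨ξ, hξ⟩ := Submodule.mem_span_singleton.1 (h _ hs)
    rw [map_add, map_add, ← hν, ← hμ, smul_add] at hξ
    have h3 : (ξ - ν) • p w = (μ - ξ) • p w1 := by linear_combination (norm := module) hξ
    by_cases hξν : ξ - ν = 0
    · rw [hξν, zero_smul, eq_comm, smul_eq_zero] at h3
      have e := sub_eq_zero.1 (h3.resolve_right h1)
      rw [← hν, e, sub_eq_zero.1 hξν]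
    · exact absurd (Submodule.mem_span_singleton.2 ⟨(ξ - ν)⁻¹ * (μ - ξ), by
        rw [← smul_smul, ← h3, inv_smul_smul₀ hξν]⟩) hw
  ext w
  rw [LinearMap.smul_apply]
  by_cases hw : p w ∈ Submodule.span F {p w1}
  · have h3 : p (w + w2) ∉ Submodule.span F {p w1} := fun e => h2 (by
      rw [map_add] at e
      exact (Submodule.add_mem_iff_right _ hw).1 e)
    have h4 := hout _ h3
    rw [map_add, map_add, hout w2 h2, smul_add] at h4
    exact add_right_cancel h4
  · exact hout w hw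

theorem pow_val {x : G} {X : Big} (hx : (x : Big) = 1 + X) (hXX : X * X = 0) (n : ℕ) :
    ((x ^ n : G) : Big) = 1 + (n : F) • X := by
  induction n with
  | zero => simp
  | succ n ih =>
    rw [pow_succ, Units.val_mul, ih, hx, add_mul, one_mul, Matrix.smul_mul, mul_add, hXX, mul_one, add_zero,
      Nat.cast_succ, add_smul, one_smul]
    abel

theorem block_of_conj (S : Setting M) (hG : ¬ Good.Good M) {x : G} (hxM : x ∈ M) {w w' φ1 φ2 : V2}
    (hw : w ≠ 0) (hw' : w' ≠ 0) (hφ1 : φ1 ≠ 0)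
    (h : (x : Big) * el (1 : A1) w φ1 = el 1 w' φ2 * (x : Big)) :
    x ∈ Cfsg.Geo.kroneckerSubgroup m k F := by
  obtain ⟨z, hz⟩ := exists_dot_eq_one hφ1
  rw [dotProduct_comm] at hz
  refine mem_of_blockTo S hG hxM hw hw' (C := blk (x : Big) φ2 z) fun ψ => ?_
  have h1 := congrArg (fun Z => Z * el (1 : A1) z ψ) h
  simp only [Matrix.mul_assoc, el_mul, hz, one_smul, mul_one] at h1
  rw [h1, ← Matrix.mul_assoc, el_sandwich]

/-- An element of the stabiliser moving little is a block root element. -/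
theorem root_of_small (hm : 0 < m) (hmk : m < k) {a : GL (Fin m) F} {b : GL (Fin k) F}
    {U : Submodule F (Fin m × Fin k → F)} (hU : Module.finrank F U ≤ m)
    (h : ∀ z, ((a : A1) ⊗ₖ (b : K2)) *ᵥ z - z ∈ U) :
    ∃ w φ : V2, (a : A1) ⊗ₖ (b : K2) = 1 + el 1 w φ := by
  have himg : ∀ (u : V1) (w : V2), tens ((a : A1) *ᵥ u) ((b : K2) *ᵥ w) - tens u w ∈ U := fun u w => by
    rw [← kron_mulVec_tens]; exact h _
  obtain ⟨c, hc⟩ : ∃ c : F, (a : A1) = c • 1 := by
    by_contra hns
    push Not at hns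
    obtain ⟨u, hu⟩ := FullAlgebra.exists_not_eigen hns
    let Lw : V2 →ₗ[F] (Fin m × Fin k → F) :=
      { toFun := fun w => tens ((a : A1) *ᵥ u) ((b : K2) *ᵥ w) - tens u w
        map_add' := fun x y => by rw [mulVec_add]; ext p; simp [tens, mul_add]; ring
        map_smul' := fun r x => by rw [mulVec_smul]; ext p; simp [tens]; ring }
    obtain ⟨η, hη, hη1⟩ := exists_functional hu
    have hinj : Function.Injective Lw := by
      rw [injective_iff_map_eq_zero]
      intro w hw
      refine gl_mulVec_injective b (funext fun d => ?_)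
      have h1 : ∑ i, η i * Lw w (i, d) = 0 := by simp [hw]
      have h2 : ∑ i, η i * Lw w (i, d) =
          (η ⬝ᵥ ((a : A1) *ᵥ u)) * ((b : K2) *ᵥ w) d - (η ⬝ᵥ u) * w d := by
        simp only [Lw, LinearMap.coe_mk, AddHom.coe_mk, tens, Pi.sub_apply, mul_sub, Finset.sum_sub_distrib,
          dotProduct, Finset.sum_mul, mul_assoc]
      rw [h2, hη1, hη u (Submodule.mem_span_singleton_self u), one_mul, zero_mul, sub_zero] at h1
      simpa using h1
    have hle : LinearMap.range Lw ≤ U := by rintro _ ⟨w, rfl⟩; exact himg u w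
    have h1 := Submodule.finrank_mono hle
    rw [LinearMap.finrank_range_of_inj hinj, Module.finrank_fintype_fun_eq_card, Fintype.card_fin] at h1
    omega
  let D : K2 := c • (b : K2) - 1
  have hD : (a : A1) ⊗ₖ (b : K2) = 1 + (1 : A1) ⊗ₖ D := by
    rw [hc, smul_kronecker, ← kronecker_smul]
    ext ⟨i, d⟩ ⟨j, e⟩
    by_cases hij : i = j <;> simp [D, Matrix.one_apply, hij, mul_sub, Prod.ext_iff]
  by_cases hD0 : ∀ w, D *ᵥ w = 0
  · refine ⟨0, 0, ?_⟩
    rw [hD, show D = 0 from Matrix.mulVec_injective (funext fun w => by rw [hD0 w, zero_mulVec]),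
      el, vecMulVec_zero]
  push Not at hD0
  obtain ⟨w1, hw1⟩ := hD0
  have hspan : ∀ w, D *ᵥ w ∈ Submodule.span F {D *ᵥ w1} := by
    intro w
    by_contra hw
    let T : V1 →ₗ[F] (Fin m × Fin k → F) :=
      { toFun := fun u => tens u (D *ᵥ w1)
        map_add' := fun x y => by ext p; simp [tens, add_mul]
        map_smul' := fun r x => by ext p; simp [tens, mul_assoc] }
    have hmemD : ∀ u w', tens u (D *ᵥ w') ∈ U := fun u w' => by
      have := h (tens u w')
      rwa [hD, add_mulVec, one_mulVec, add_sub_cancel_left, kron_mulVec_tens, one_mulVec] at this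
    have hle : LinearMap.range T ≤ U := by rintro _ ⟨u, rfl⟩; exact hmemD u w1
    have hinj : Function.Injective T := fun x y hxy => by
      obtain ⟨d, hd⟩ := Function.ne_iff.1 hw1
      funext i
      exact mul_right_cancel₀ hd (congrFun hxy (i, d))
    have heq : LinearMap.range T = U := Submodule.eq_of_le_of_finrank_le hle (by
      rw [LinearMap.finrank_range_of_inj hinj, Module.finrank_fintype_fun_eq_card, Fintype.card_fin]
      exact hU)
    obtain ⟨u, hu⟩ := heq ▸ hmemD (Pi.single ⟨0, hm⟩ 1) w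
    refine hw (Submodule.mem_span_singleton.2 ⟨u ⟨0, hm⟩, funext fun d => ?_⟩)
    have h1 := congrFun hu (⟨0, hm⟩, d)
    simpa [T, tens] using h1
  choose t ht using fun w => Submodule.mem_span_singleton.1 (hspan w)
  refine ⟨D *ᵥ w1, fun e => t (Pi.single e 1), ?_⟩
  rw [hD, el]
  congr 2
  ext d e
  have h1 := congrFun (ht (Pi.single e 1)) d
  simp only [Pi.smul_apply, smul_eq_mul, mulVec_single_one, Matrix.col_apply] at h1
  rw [vecMulVec_apply, ← h1, mul_comm]

/-- Outside the stabiliser some element of the group fixes a pure tensor. -/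
theorem exists_fixing (S : Setting M) (hmk : m < k) (hG : ¬ Good.Good M) {g : G} (hg : g ∈ M)
    (hcon : g ∉ Cfsg.Geo.kroneckerSubgroup m k F) :
    ∃ g' ∈ M, g' ∉ Cfsg.Geo.kroneckerSubgroup m k F ∧ ∃ u : V1, ∃ v : V2, u ≠ 0 ∧ v ≠ 0 ∧
      (g' : Big) *ᵥ tens u v = tens u v := by
  have hm := S.hm
  have hk := S.hk
  set u : V1 := Pi.single ⟨0, by omega⟩ 1
  set e : V2 := Pi.single ⟨0, by omega⟩ 1
  set z := ((g⁻¹ : G) : Big) *ᵥ tens u e
  obtain ⟨ψ, hψ0, hψ⟩ := Setting.exists_ne_orth (fun i : Fin m => fun d : Fin k => z (i, d)) hmk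
  obtain ⟨v, hv0, hv⟩ := exists_common_zero_not_mem (⊥ : Submodule F V2) ![ψ]
    (by rw [finrank_bot, Fintype.card_fin]; omega)
  replace hv0 : v ≠ 0 := by simpa using hv0
  have hψv : ψ ⬝ᵥ v = 0 := hv 0
  obtain ⟨T, hT, hTX⟩ := InM_conj_root S hg hψv
  refine ⟨T, hT, ?_, u, e, by simp [u], by simp [e], ?_⟩
  · rintro ⟨a, b, hab⟩
    let L : V1 →ₗ[F] (Fin m × Fin k → F) :=
      { toFun := fun u => (g : Big) *ᵥ tens u v
        map_add' := fun x y => by rw [← mulVec_add]; congr 1; ext p; simp [tens, add_mul]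
        map_smul' := fun c x => by rw [RingHom.id_apply, ← mulVec_smul]; congr 1; ext p; simp [tens, mul_assoc] }
    obtain ⟨w, φ, hwφ⟩ := root_of_small (U := LinearMap.range L) (by omega) hmk
      ((LinearMap.finrank_range_le L).trans (by rw [Module.finrank_fintype_fun_eq_card, Fintype.card_fin]))
      (fun x => by
        rw [← hab, hTX, add_mulVec, one_mulVec, add_sub_cancel_left, ← mulVec_mulVec, ← mulVec_mulVec,
          el_mulVec, one_mulVec]
        exact LinearMap.mem_range_self L _)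
    rw [← hab, hTX, add_right_inj] at hwφ
    have hw : w ≠ 0 := fun e0 => by
      rw [e0, show el (1 : A1) (0 : V2) φ = 0 by rw [el, zero_vecMulVec, kronecker_zero], Matrix.mul_assoc] at hwφ
      have h1 := gl_cancel g hwφ
      rw [Matrix.mul_zero] at h1
      have h2 := congrArg (fun Z => Z * (g : Big)) h1
      simp only [Matrix.mul_assoc, ← Units.val_mul, inv_mul_cancel, Units.val_one, Matrix.mul_one,
        Matrix.zero_mul] at h2
      exact el_ne_zero (by omega) hv0 hψ0 (fun e1 => by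
        have := congrFun (congrFun e1 ⟨0, by omega⟩) ⟨0, by omega⟩
        simp at this) h2
    refine hcon (block_of_conj S hG hg hv0 hw hψ0 (φ2 := φ) ?_)
    rw [← hwφ, Matrix.mul_assoc, ← Units.val_mul, inv_mul_cancel, Units.val_one, mul_one]
  · rw [hTX, add_mulVec, one_mulVec, ← mulVec_mulVec, ← mulVec_mulVec, el_mulVec,
      show ctr ψ z = 0 from funext fun i => hψ i]
    rw [mulVec_zero, show tens (0 : V1) v = 0 by ext p; simp [tens], mulVec_zero, add_zero]

theorem rigid [Finite F] (S : Setting M) (hmk : m < k) (hG : ¬ Good.Good M) {g₀ : G} (hg₀ : g₀ ∈ M) :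
    g₀ ∈ Cfsg.Geo.kroneckerSubgroup m k F := by
  classical
  by_contra hcon₀
  obtain ⟨g, hg, hcon, uf, v0, huf, hv0n, hfix⟩ := exists_fixing S hmk hG hg₀ hcon₀
  have hk := S.hk
  have hm := S.hm
  have hone : (1 : A1) ≠ 0 := fun e => by
    have := congrFun (congrFun e ⟨0, by omega⟩) ⟨0, by omega⟩
    simp at this
  set v : V2 := v0
  have hvn : v ≠ 0 := hv0n
  obtain ⟨ψ0, hψ0⟩ := exists_dot_eq_one hv0n
  set π : K2 := 1 - vecMulVec v0 ψ0 with hπ
  have hπv : π *ᵥ v0 = 0 := by
    rw [hπ, sub_mulVec, one_mulVec, vecMulVec_mulVec, op_smul_eq_smul, hψ0, one_smul, sub_self]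
  have hφπ : ∀ φ : V2, φ ⬝ᵥ v0 = 0 → ∀ w, φ ⬝ᵥ (π *ᵥ w) = φ ⬝ᵥ w := fun φ hφ w => by
    rw [hπ, sub_mulVec, one_mulVec, vecMulVec_mulVec, op_smul_eq_smul, dotProduct_sub, dotProduct_smul, hφ,
      smul_zero, sub_zero]
  have hπsub : ∀ w, π *ᵥ w = w - (ψ0 ⬝ᵥ w) • v0 := fun w => by
    rw [hπ, sub_mulVec, one_mulVec, vecMulVec_mulVec, op_smul_eq_smul]
  set PI : Big := (1 : A1) ⊗ₖ π
  have hctr : ∀ φ : V2, φ ⬝ᵥ v0 = 0 → ∀ z, ctr φ (PI *ᵥ z) = ctr φ z := by
    intro φ hφ z
    have e : φ ᵥ* π = φ := by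
      rw [hπ, vecMul_sub, vecMul_one, vecMul_vecMulVec, hφ, zero_smul, sub_zero]
    ext i
    have e1 : ∀ b, ∑ c, φ c * π c b = φ b := fun b => congrFun e b
    simp only [ctr, mulVec, dotProduct, PI, kroneckerMap_apply, Matrix.one_apply, Fintype.sum_prod_type,
      ite_mul, one_mul, zero_mul, Finset.sum_ite_irrel, Finset.sum_const_zero, Finset.sum_ite_eq,
      Finset.mem_univ, if_true, Finset.mul_sum, ← mul_assoc]
    rw [Finset.sum_comm]
    exact Finset.sum_congr rfl fun b _ => by rw [← Finset.sum_mul, e1]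
  let L : V1 →ₗ[F] (Fin m × Fin k → F) :=
    { toFun := fun u => PI *ᵥ ((g : Big) *ᵥ tens u v)
      map_add' := fun x y => by
        rw [show tens (x + y) v = tens x v + tens y v by ext p; simp [tens, add_mul], mulVec_add, mulVec_add]
      map_smul' := fun c x => by
        rw [RingHom.id_apply, show tens (c • x) v = c • tens x v by ext p; simp [tens, mul_assoc], mulVec_smul,
          mulVec_smul] }
  set R := LinearMap.range L
  have hR : Module.finrank F R < m := by
    have hker : uf ∈ LinearMap.ker L := by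
      show PI *ᵥ ((g : Big) *ᵥ tens uf v) = 0
      rw [hfix, kron_mulVec_tens, hπv]
      ext p
      simp [tens]
    have h1 : 0 < Module.finrank F (LinearMap.ker L) := by
      rw [Nat.pos_iff_ne_zero, Ne, Submodule.finrank_eq_zero]
      exact fun e => huf (by simpa [e] using hker)
    have h2 := LinearMap.finrank_range_add_finrank_ker L
    rw [Module.finrank_fintype_fun_eq_card, Fintype.card_fin] at h2
    have h3 : Module.finrank F R + Module.finrank F (LinearMap.ker L) = m := h2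
    omega
  let K0 : Subgroup G :=
    { carrier := {x | ∀ z, PI *ᵥ ((x : Big) *ᵥ z - z) ∈ R}
      one_mem' := fun z => by simp
      mul_mem' := fun {x y} hx hy z => by
        rw [gl_mul_mulVec, ← sub_add_sub_cancel _ ((y : Big) *ᵥ z) z, mulVec_add]
        exact R.add_mem (hx _) (hy z)
      inv_mem' := fun {x} hx z => by
        have := R.neg_mem (hx (((x⁻¹ : G) : Big) *ᵥ z))
        rwa [gl_mulVec_inv, ← mulVec_neg, neg_sub] at this }
  let K : Subgroup G := K0 ⊓ M
  -- elements of the stabiliser in `K` are block root elements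
  have hN : ∀ x : G, x ∈ K → x ∈ Cfsg.Geo.kroneckerSubgroup m k F →
      ∃ φ : V2, (x : Big) = 1 + el 1 v0 φ := by
    rintro x ⟨hx0, hxM⟩ ⟨a, b, hab⟩
    let fb : V2 →ₗ[F] V2 := Matrix.mulVecLin (π * (b : K2))
    let fp : V2 →ₗ[F] V2 := Matrix.mulVecLin π
    have hfb : ∀ w, fb w = π *ᵥ ((b : K2) *ᵥ w) := fun w => by
      show (π * (b : K2)) *ᵥ w = _
      rw [← mulVec_mulVec]
    have himg : ∀ (u : V1) (w : V2),
        tens ((a : A1) *ᵥ u) (π *ᵥ ((b : K2) *ᵥ w)) - tens u (π *ᵥ w) ∈ R := by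
      intro u w
      have := hx0 (tens u w)
      rwa [hab, mulVec_sub, kron_mulVec_tens, kron_mulVec_tens, kron_mulVec_tens, one_mulVec, one_mulVec] at this
    have hker : ∀ {w : V2}, π *ᵥ w = 0 → w = (ψ0 ⬝ᵥ w) • v0 := fun {w} h => by
      rw [hπsub, sub_eq_zero] at h
      exact h
    obtain ⟨w1, hw1, hψw1⟩ := exists_common_zero_not_mem (Submodule.span F {v0}) ![ψ0] (by
      have : Module.finrank F (Submodule.span F {v0}) ≤ 1 := (finrank_span_le_card _).trans (by simp)
      rw [Fintype.card_fin]; omega)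
    have hp1 : π *ᵥ w1 ≠ 0 := fun e => hw1 (Submodule.mem_span_singleton.2 ⟨_, (hker e).symm⟩)
    obtain ⟨w2, hw2, hψw2⟩ := exists_common_zero_not_mem (Submodule.span F {w1}) ![ψ0] (by
      have h2 : Module.finrank F (Submodule.span F {w1}) ≤ 1 := (finrank_span_le_card _).trans (by simp)
      rw [Fintype.card_fin]; omega)
    have hp2 : π *ᵥ w2 ∉ Submodule.span F {π *ᵥ w1} := fun e => by
      obtain ⟨t, ht⟩ := Submodule.mem_span_singleton.1 e
      rw [hπsub w2, show ψ0 ⬝ᵥ w2 = 0 from hψw2 0, zero_smul, sub_zero, hπsub w1,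
        show ψ0 ⬝ᵥ w1 = 0 from hψw1 0, zero_smul, sub_zero] at ht
      exact hw2 (ht ▸ Submodule.smul_mem _ t (Submodule.mem_span_singleton_self w1))
    by_cases hdep : ∀ w, fp w ≠ 0 → fb w ∈ Submodule.span F {fp w}
    swap
    · exfalso
      push Not at hdep
      obtain ⟨w, hw0, hwn⟩ := hdep
      set X := π *ᵥ ((b : K2) *ᵥ w)
      set Y := π *ᵥ w
      have hXn : X ∉ Submodule.span F {Y} := fun e => hwn (by rw [hfb]; exact e)
      let Lw : V1 →ₗ[F] (Fin m × Fin k → F) :=
        { toFun := fun u => tens ((a : A1) *ᵥ u) X - tens u Y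
          map_add' := fun x y => by
            rw [mulVec_add]; ext p; simp [tens, add_mul]; ring
          map_smul' := fun c x => by
            rw [mulVec_smul]; ext p; simp [tens]; ring }
      obtain ⟨η, hηY, hηX⟩ := exists_functional hXn
      have hinj : Function.Injective Lw := by
        rw [injective_iff_map_eq_zero]
        intro u hu
        have h1 : ctr η (tens ((a : A1) *ᵥ u) X - tens u Y) = 0 := by
          rw [show tens ((a : A1) *ᵥ u) X - tens u Y = 0 from hu]; ext i; simp [ctr]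
        have h2 : ctr η (tens ((a : A1) *ᵥ u) X - tens u Y) =
            ctr η (tens ((a : A1) *ᵥ u) X) - ctr η (tens u Y) := by
          ext i; simp [ctr, mul_sub, Finset.sum_sub_distrib]
        rw [h2, ctr_tens, ctr_tens, hηX, hηY Y (Submodule.mem_span_singleton_self Y), one_smul, zero_smul,
          sub_zero] at h1
        exact gl_mulVec_injective a (by simpa using h1)
      have hle : LinearMap.range Lw ≤ R := by
        rintro _ ⟨u, rfl⟩; exact himg u w
      have h1 := Submodule.finrank_mono hle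
      rw [LinearMap.finrank_range_of_inj hinj, Module.finrank_fintype_fun_eq_card, Fintype.card_fin] at h1
      omega
    obtain ⟨μ, hμ⟩ := smul_of_dependent fb fp hp1 hp2 hdep
    have hμw : ∀ w, π *ᵥ ((b : K2) *ᵥ w) = μ • (π *ᵥ w) := fun w => by
      rw [← hfb, hμ]; rfl
    by_cases hμa : μ • (a : A1) = 1
    · refine ⟨ψ0 ᵥ* (μ⁻¹ • (b : K2) - 1), ?_⟩
      have hμ0 : μ ≠ 0 := fun e => by
        rw [e, zero_smul] at hμa
        exact hone hμa.symm
      have e : μ⁻¹ • (b : K2) - 1 = vecMulVec v0 (ψ0 ᵥ* (μ⁻¹ • (b : K2) - 1)) := by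
        refine Matrix.mulVec_injective (funext fun w => ?_)
        rw [vecMulVec_mulVec, op_smul_eq_smul, ← dotProduct_mulVec]
        have h5 : π *ᵥ ((μ⁻¹ • (b : K2)) *ᵥ w - w) = 0 := by
          rw [mulVec_sub, smul_mulVec, mulVec_smul, hμw, smul_smul, inv_mul_cancel₀ hμ0, one_smul, sub_self]
        have h6 := hker h5
        rw [sub_mulVec, one_mulVec]
        exact h6
      rw [el, ← e, kronecker_sub_one, hab]
      conv_rhs => rw [← hμa]
      rw [smul_kronecker, kronecker_smul, smul_smul, mul_inv_cancel₀ hμ0, one_smul, add_sub_cancel]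
    exfalso
    obtain ⟨u, hu⟩ : ∃ u, (μ • (a : A1) - 1) *ᵥ u ≠ 0 := by
      by_contra hc
      push Not at hc
      exact hμa (sub_eq_zero.1 (Matrix.mulVec_injective (funext fun u => by rw [hc u, zero_mulVec])))
    set u1 := (μ • (a : A1) - 1) *ᵥ u with hu1
    let Lu : V2 →ₗ[F] (Fin m × Fin k → F) :=
      { toFun := fun w => tens u1 (π *ᵥ w)
        map_add' := fun x y => by rw [mulVec_add]; ext p; simp [tens, mul_add]
        map_smul' := fun c x => by rw [mulVec_smul]; ext p; simp [tens]; ring }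
    have hle : LinearMap.range Lu ≤ R := by
      rintro _ ⟨w, rfl⟩
      have := himg u w
      rw [hμw] at this
      convert this using 1
      show tens u1 (π *ᵥ w) = _
      ext p
      simp only [tens, hu1, sub_mulVec, smul_mulVec, one_mulVec, Pi.sub_apply, Pi.smul_apply, smul_eq_mul]
      ring
    have hkerle : LinearMap.ker Lu ≤ Submodule.span F {v0} := by
      intro w hw
      rw [LinearMap.mem_ker] at hw
      obtain ⟨i, hi⟩ := Function.ne_iff.1 hu
      refine Submodule.mem_span_singleton.2 ⟨_, (hker (funext fun c => ?_)).symm⟩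
      exact (mul_eq_zero.1 (congrFun hw (i, c) : u1 i * (π *ᵥ w) c = 0)).resolve_left hi
    have h1 := LinearMap.finrank_range_add_finrank_ker Lu
    rw [Module.finrank_fintype_fun_eq_card, Fintype.card_fin] at h1
    have h2 := Submodule.finrank_mono hkerle
    rw [finrank_span_singleton hv0n] at h2
    have h3 := Submodule.finrank_mono hle
    omega
  -- the stabiliser part
  let N : Subgroup K := (Cfsg.Geo.kroneckerSubgroup m k F).subgroupOf K
  have hblock : ∀ {x : G}, x ∈ M → ∀ {w φ1 φ2 : V2}, w ≠ 0 → φ1 ≠ 0 →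
      (x : Big) * el (1 : A1) w φ1 = el 1 v0 φ2 * (x : Big) → x ∈ Cfsg.Geo.kroneckerSubgroup m k F :=
    fun hxM _ _ _ hw hφ1 h => block_of_conj S hG hxM hw hv0n hφ1 h
  have hTI : ∀ x : K, x ∉ N → ∀ n ∈ N, x * n * x⁻¹ ∈ N → n = 1 := by
    intro x hx n hn hn'
    by_contra hn1
    obtain ⟨φ1, hφ1⟩ := hN n.1 n.2 hn
    obtain ⟨φ2, hφ2⟩ := hN _ (x * n * x⁻¹).2 hn'
    have hφ10 : φ1 ≠ 0 := fun e => hn1 (Subtype.ext (Units.ext (by
      rw [hφ1, e, el, vecMulVec_zero, kronecker_zero, add_zero]; rfl)))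
    refine hx (hblock x.2.2 hv0n hφ10 (φ2 := φ2) ?_)
    have h1 := congrArg (fun Z => Z * ((x : G) : Big)) hφ2
    simp only [Subgroup.coe_mul, Subgroup.coe_inv, Units.val_mul, Matrix.mul_assoc, add_mul, one_mul] at h1
    rw [← Units.val_mul (x : G)⁻¹, inv_mul_cancel, Units.val_one, mul_one, hφ1, mul_add, mul_one] at h1
    exact add_left_cancel h1
  obtain ⟨ψv, hψv0, hψv⟩ := Setting.exists_ne_orth ![v] (by omega : 1 < k)
  have hψvv : ψv ⬝ᵥ v = 0 := hψv 0
  have hne : N ≠ ⊤ := by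
    intro htop
    obtain ⟨T, hT, hTX⟩ := InM_conj_root S hg hψvv
    have hTK : T ∈ K := ⟨fun z => ⟨ctr ψv (((g⁻¹ : G) : Big) *ᵥ z), by
      show PI *ᵥ ((g : Big) *ᵥ tens _ v) = _
      rw [hTX, add_mulVec, one_mulVec, add_sub_cancel_left, ← mulVec_mulVec, ← mulVec_mulVec, el_mulVec,
        one_mulVec]⟩, hT⟩
    obtain ⟨φ, hφ⟩ := hN T hTK (show (⟨T, hTK⟩ : K) ∈ N from htop ▸ Subgroup.mem_top _)
    rw [hTX, add_right_inj] at hφ
    refine hcon (hblock hg hvn hψv0 (φ2 := φ) ?_)
    rw [← hφ, Matrix.mul_assoc, ← Units.val_mul, inv_mul_cancel, Units.val_one, mul_one]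
  obtain ⟨p, hp⟩ := CharP.exists F
  haveI : Fact p.Prime := ⟨(CharP.char_is_prime_or_zero F p).resolve_right (CharP.char_ne_zero_of_finite F p)⟩
  let Q : Subgroup N :=
    { carrier := {x | ∃ φ : V2, φ ⬝ᵥ v0 = 0 ∧ (((x : K) : G) : Big) = 1 + el 1 v0 φ}
      one_mem' := ⟨0, zero_dotProduct _, by simp [el]⟩
      mul_mem' := by
        rintro x y ⟨φ, h, hx⟩ ⟨φ', h', hy⟩
        refine ⟨φ + φ', by rw [add_dotProduct, h, h', add_zero], ?_⟩
        rw [Subgroup.coe_mul, Subgroup.coe_mul, Units.val_mul, hx, hy, add_mul, one_mul, mul_add, el_mul, h,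
          zero_smul, mul_one, add_zero, el, el, el, vecMulVec_add, kronecker_add]
        abel
      inv_mem' := by
        rintro x ⟨φ, h, hx⟩
        refine ⟨-φ, by rw [neg_dotProduct, h, neg_zero], ?_⟩
        rw [Subgroup.coe_inv, Subgroup.coe_inv, inv_val hx (Setting.el_sq _ _ _ _ h), sub_eq_add_neg,
          ← neg_one_smul F φ, el_ax_smul, el_smul, neg_one_smul] }
  haveI : IsMulCommutative Q := ⟨⟨fun ⟨x, φ, h, hx⟩ ⟨y, φ', h', hy⟩ => by
    apply Subtype.ext; apply Subtype.ext; apply Subtype.ext; apply Units.ext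
    simp only [Subgroup.coe_mul, Units.val_mul, hx, hy, add_mul, one_mul, mul_add, el_mul, h, h', zero_smul,
      mul_one, add_zero]
    abel⟩⟩
  -- root elements in the stabiliser part
  have hmemQ : ∀ φ : V2, φ ⬝ᵥ v0 = 0 → ∃ x : Q, ((((x : N) : K) : G) : Big) = 1 + el 1 v0 φ := by
    intro φ h
    obtain ⟨T, hT, hTX⟩ := S.hT1 h
    have hTK : T ∈ K := ⟨fun z => by
      rw [hTX, add_mulVec, one_mulVec, add_sub_cancel_left, el_mulVec, kron_mulVec_tens, hπv]
      rw [show tens _ (0 : V2) = (0 : Fin m × Fin k → F) by ext p; simp [tens]]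
      exact R.zero_mem, hT⟩
    have hTN : (⟨T, hTK⟩ : K) ∈ N := by
      refine ⟨1, tv v0 φ, ?_⟩
      show (T : Big) = _
      rw [hTX, coe_tv h, Units.val_one, kronecker_add, one_kronecker_one]
      rfl
    exact ⟨⟨⟨⟨T, hTK⟩, hTN⟩, φ, h, hTX⟩, hTX⟩
  obtain ⟨φa, hφa0, hφa⟩ := Setting.exists_ne_orth ![v0] (by omega : 1 < k)
  obtain ⟨φb, hφbn, hφb⟩ := exists_common_zero_not_mem (Submodule.span F {φa}) ![v0] (by
    have : Module.finrank F (Submodule.span F {φa}) ≤ 1 := (finrank_span_le_card _).trans (by simp)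
    rw [Fintype.card_fin]; omega)
  have ha0 : φa ⬝ᵥ v0 = 0 := hφa 0
  have hb0 : φb ⬝ᵥ v0 = 0 := by rw [dotProduct_comm]; exact hφb 0
  obtain ⟨xa, hxa⟩ := hmemQ φa ha0
  obtain ⟨xb, hxb⟩ := hmemQ φb hb0
  have hNbot : N ≠ ⊥ := fun hb => by
    have h1 : ((xa : N) : K) = 1 := by
      exact (Subgroup.eq_bot_iff_forall N).1 hb _ (xa : N).2
    rw [h1, Subgroup.coe_one, Units.val_one, left_eq_add] at hxa
    exact el_ne_zero (by omega) hv0n hφa0 hone hxa
  have hfrob : Cfsg.IsFrobeniusComplement N := by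
    rw [Cfsg.Agent.Lib.Frobenius.isFrobeniusComplement_iff]
    refine ⟨hNbot, hne, fun x hx n hn hn' => ?_⟩
    exact hTI x⁻¹ (fun h => hx (by simpa using N.inv_mem h)) n hn (by rwa [inv_inv])
  obtain ⟨C, hCn, hC, -⟩ := Cfsg.Agent.Lib.Induced.FrobeniusKernel.exists_normal_complement hTI
  haveI := hCn
  haveI : IsCyclic Q := Cfsg.Agent.Lib.Frobenius.isCyclic_of_commutative_complement hfrob hC
  obtain ⟨gen, hgen⟩ := IsCyclic.exists_generator (α := Q)
  obtain ⟨φg, hg0, hgv⟩ := gen.2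
  have hall : ∀ (φ : V2) (x : Q), ((((x : N) : K) : G) : Big) = 1 + el 1 v0 φ → ∃ c : F, φ = c • φg := by
    intro φ x hx
    obtain ⟨n, hn⟩ := (isOfFinOrder_of_finite gen).mem_powers_iff_mem_zpowers.2 (hgen x)
    refine ⟨n, ?_⟩
    have h1 := congrArg (fun y : Q => ((((y : N) : K) : G) : Big)) hn
    simp only [SubmonoidClass.coe_pow] at h1
    rw [pow_val hgv (Setting.el_sq _ _ _ _ hg0), hx, add_right_inj, ← el_smul, ← el_ax_smul] at h1
    obtain ⟨i, hi⟩ := Function.ne_iff.1 hv0n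
    ext c
    have := congrFun (congrFun h1 (⟨0, by omega⟩, i)) (⟨0, by omega⟩, c)
    simp only [el_apply, Matrix.one_apply_eq, one_mul] at this
    exact (mul_left_cancel₀ hi this).symm
  obtain ⟨s, hs⟩ := hall φa xa hxa
  obtain ⟨t, ht⟩ := hall φb xb hxb
  have hs0 : s ≠ 0 := fun e => hφa0 (by rw [hs, e, zero_smul])
  exact hφbn (Submodule.mem_span_singleton.2 ⟨t * s⁻¹, by rw [ht, hs, smul_smul, inv_mul_cancel_right₀ hs0]⟩)
where
  kronecker_sub_one {B : Matrix (Fin k) (Fin k) F} :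
      (1 : Matrix (Fin m) (Fin m) F) ⊗ₖ (B - 1) = (1 : Matrix (Fin m) (Fin m) F) ⊗ₖ B - 1 := by
    rw [← one_kronecker_one (m := Fin m) (n := Fin k)]
    ext ⟨i, c⟩ ⟨j, d⟩
    by_cases h : i = j <;> simp [kroneckerMap_apply, Matrix.one_apply, mul_sub, h]

end Cfsg.Agent.Lib.TensorMax.Rigid
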